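import Mathlib
import Cfsg.Prelude.Def_Transfer
import Cfsg.Agent.S0058
import Cfsg.Agent.FastGrp
import Cfsg.Agent.Prune
set_option linter.all false

section
prune_inst 0x7f00000000000000000000000000000000000000000000000000000000000000000000000000000000000000000000000000000000000000000000000000000000000000000000000000000000000000003fffffffffffffffffffffffffffbeffbdffffffff

-- part: WeakTI/Basic
section
set_option linter.all false
open scoped Cfsg.Agent.FastGrp

/-!
Weakly closed elementary abelian TI 2-subgroups (base file for S1764, S1179): conjugates, Sylow facts.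
-/

set_option autoImplicit false

namespace Cfsg.Agent.WeakTI.Basic

open Subgroup Pointwise

variable {G : Type*} [Group G]

theorem mem_cj {A : Subgroup G} {g x : G} : x ∈ MulAut.conj g • A ↔ g⁻¹ * x * g ∈ A := by
  rw [Subgroup.mem_pointwise_smul_iff_inv_smul_mem, ← map_inv, MulAut.smul_def, MulAut.conj_apply,
    inv_inv]

theorem conj_mem_cj {A : Subgroup G} {g x : G} (h : x ∈ A) : g * x * g⁻¹ ∈ MulAut.conj g • A := by
  rw [mem_cj]
  simpa [mul_assoc] using h

theorem cj_mul (A : Subgroup G) (g h : G) :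
    MulAut.conj (g * h) • A = MulAut.conj g • MulAut.conj h • A := by
  rw [map_mul, mul_smul]

theorem cj_one (A : Subgroup G) : MulAut.conj (1 : G) • A = A := by
  rw [map_one, one_smul]

theorem cj_eq_map (A : Subgroup G) (g : G) :
    MulAut.conj g • A = A.map (MulAut.conj g).toMonoidHom := by
  ext x
  rw [mem_cj, Subgroup.mem_map]
  constructor
  · intro h
    exact ⟨_, h, by simp only [mul_assoc, _root_.MulEquiv.toMonoidHom_eq_coe, _root_.MonoidHom.coe_coe, _root_.MulAut.conj_apply, _root_.mul_inv_cancel_left, _root_.mul_inv_cancel, _root_.mul_one]⟩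
  · rintro ⟨y, hy, rfl⟩
    simpa [mul_assoc] using hy

theorem mem_normalizer_iff_cj {A : Subgroup G} {g : G} :
    g ∈ normalizer (A : Set G) ↔ MulAut.conj g • A = A := by
  constructor
  · intro h
    ext x
    rw [mem_cj]
    have := (Subgroup.mem_normalizer_iff.mp (inv_mem h)) x
    rw [inv_inv] at this
    exact this.symm
  · intro h
    rw [Subgroup.mem_normalizer_iff]
    intro x
    constructor
    · intro hx
      have := conj_mem_cj (g := g) hx
      rw [h] at this
      exact this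
    · intro hx
      have hx' : g * x * g⁻¹ ∈ MulAut.conj g • A := by rw [h]; exact hx
      rw [mem_cj] at hx'
      simpa [mul_assoc] using hx'

theorem conj_mem_of_mem_normalizer {A : Subgroup G} {g x : G} (hg : g ∈ normalizer (A : Set G))
    (hx : x ∈ A) : g * x * g⁻¹ ∈ A :=
  (Subgroup.mem_normalizer_iff.mp hg x).mp hx

theorem conj_mem_of_mem_normalizer' {A : Subgroup G} {g x : G} (hg : g ∈ normalizer (A : Set G))
    (hx : x ∈ A) : g⁻¹ * x * g ∈ A := by
  have := (Subgroup.mem_normalizer_iff.mp (inv_mem hg) x).mp hx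
  simpa using this

/-- `A` is a weakly closed elementary abelian TI 2-subgroup. -/
structure WTI (A : Subgroup G) : Prop where
  comm : ∀ a ∈ A, ∀ b ∈ A, a * b = b * a
  sq : ∀ a ∈ A, a * a = 1
  ne : A ≠ ⊥
  ti : ∀ g : G, MulAut.conj g • A = A ∨ MulAut.conj g • A ⊓ A = ⊥
  wc : ∀ g : G, MulAut.conj g • A ≤ normalizer (A : Set G) → MulAut.conj g • A = A

/-- `B` is conjugate to `A`. -/
def Cj (A B : Subgroup G) : Prop := ∃ g : G, B = MulAut.conj g • A

theorem Cj.refl (A : Subgroup G) : Cj A A := ⟨1, (cj_one A).symm⟩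

theorem Cj.symm {A B : Subgroup G} (h : Cj A B) : Cj B A := by
  obtain ⟨g, rfl⟩ := h
  exact ⟨g⁻¹, by rw [← cj_mul, inv_mul_cancel, cj_one]⟩

theorem Cj.trans {A B C : Subgroup G} (h : Cj A B) (h' : Cj B C) : Cj A C := by
  obtain ⟨g, rfl⟩ := h
  obtain ⟨k, rfl⟩ := h'
  exact ⟨k * g, by rw [cj_mul]⟩

theorem Cj.conj {A B : Subgroup G} (h : Cj A B) (g : G) : Cj A (MulAut.conj g • B) :=
  h.trans ⟨g, rfl⟩

namespace WTI

variable {A B C : Subgroup G}

theorem inv_eq (hA : WTI A) {a : G} (ha : a ∈ A) : a⁻¹ = a :=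
  inv_eq_of_mul_eq_one_left (hA.sq a ha)

theorem cj (hA : WTI A) (g : G) : WTI (MulAut.conj g • A) where
  comm := by
    intro a ha b hb
    rw [mem_cj] at ha hb
    have := hA.comm _ ha _ hb
    have h2 : g * (g⁻¹ * a * g * (g⁻¹ * b * g)) * g⁻¹ = g * (g⁻¹ * b * g * (g⁻¹ * a * g)) * g⁻¹ := by
      rw [this]
    simpa only [mul_assoc, _root_.mul_inv_cancel_left, _root_.mul_inv_cancel, _root_.mul_one] using h2
  sq := by
    intro a ha
    rw [mem_cj] at ha
    have := hA.sq _ ha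
    have h2 : g * (g⁻¹ * a * g * (g⁻¹ * a * g)) * g⁻¹ = 1 := by rw [this]; simp
    simpa only [mul_assoc, _root_.mul_inv_cancel_left, _root_.mul_inv_cancel, _root_.mul_one] using h2
  ne := by
    intro h
    apply hA.ne
    rw [Subgroup.eq_bot_iff_forall] at h ⊢
    intro x hx
    have := h _ (conj_mem_cj (g := g) hx)
    simpa using this
  ti := by
    intro k
    have h := hA.ti (g⁻¹ * k * g)
    rw [cj_mul, cj_mul] at h
    rcases h with h | h
    · left
      have := congrArg (fun S => MulAut.conj g • S) h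
      simp only [← cj_mul] at this
      simpa only [← cj_mul, mul_assoc, _root_.map_mul, _root_.mul_inv_cancel_left] using this
    · right
      rw [Subgroup.eq_bot_iff_forall] at h ⊢
      intro x hx
      rw [Subgroup.mem_inf] at hx
      have h1 := hx.1
      have h2 := hx.2
      rw [mem_cj] at h1 h2
      rw [mem_cj] at h1
      have := h (g⁻¹ * x * g) (by
        rw [Subgroup.mem_inf]
        refine ⟨?_, h2⟩
        rw [mem_cj, mem_cj, mem_cj]
        simpa only [mul_assoc, _root_.inv_inv, _root_.mul_inv_cancel_left, _root_.mul_inv_cancel, _root_.mul_one] using h1)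
      have h3 : g * (g⁻¹ * x * g) * g⁻¹ = 1 := by rw [this]; simp
      simpa [mul_assoc] using h3
  wc := by
    intro k hk
    have h := hA.wc (g⁻¹ * k * g) (by
      intro x hx
      rw [mem_cj] at hx
      have hx1 : g * x * g⁻¹ ∈ MulAut.conj k • MulAut.conj g • A := by
        rw [mem_cj, mem_cj]
        simpa only [mul_assoc, _root_.mul_inv_rev, _root_.inv_inv] using hx
      have hx2 := hk hx1
      rw [mem_normalizer_iff_cj] at hx2 ⊢
      have := congrArg (fun S => MulAut.conj g⁻¹ • S) hx2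
      simp only [← cj_mul] at this
      simpa only [mul_assoc, cj_one, _root_.inv_mul_cancel, _root_.mul_one, _root_.inv_mul_cancel_left, _root_.map_one, _root_.one_smul] using this)
    have := congrArg (fun S => MulAut.conj g • S) h
    simp only [← cj_mul] at this
    simpa only [← cj_mul, mul_assoc, _root_.map_mul, _root_.mul_inv_cancel_left] using this

theorem of_cj (hA : WTI A) (h : Cj A B) : WTI B := by
  obtain ⟨g, rfl⟩ := h
  exact hA.cj g

/-- TI for two members. -/
theorem eq_or (hA : WTI A) (hB : Cj A B) : A = B ∨ A ⊓ B = ⊥ := by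
  obtain ⟨g, rfl⟩ := hB
  rcases hA.ti g with h | h
  · left; exact h.symm
  · right; rw [inf_comm]; exact h

theorem eq_of_mem (hA : WTI A) (hB : Cj A B) {x : G} (hxA : x ∈ A) (hxB : x ∈ B) (hx : x ≠ 1) :
    A = B := by
  rcases hA.eq_or hB with h | h
  · exact h
  · exfalso
    apply hx
    have : x ∈ A ⊓ B := ⟨hxA, hxB⟩
    rw [h] at this
    exact Subgroup.mem_bot.mp this

theorem eq_one_of_mem (hA : WTI A) (hB : Cj A B) (hne : A ≠ B) {x : G} (hxA : x ∈ A)
    (hxB : x ∈ B) : x = 1 := by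
  by_contra h
  exact hne (hA.eq_of_mem hB hxA hxB h)

theorem eq_of_le_normalizer (hA : WTI A) (hB : Cj A B) (h : B ≤ normalizer (A : Set G)) :
    A = B := by
  obtain ⟨g, rfl⟩ := hB
  exact (hA.wc g h).symm

theorem le_normalizer_self (A : Subgroup G) : A ≤ normalizer (A : Set G) := Subgroup.le_normalizer

/-- the centralizer of a nontrivial element of `A` normalises `A` -/
theorem mem_normalizer_of_commute (hA : WTI A) {a x : G} (ha : a ∈ A) (ha1 : a ≠ 1)
    (h : x * a = a * x) : x ∈ normalizer (A : Set G) := by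
  rw [mem_normalizer_iff_cj]
  refine (hA.eq_of_mem (B := MulAut.conj x • A) ⟨x, rfl⟩ ha ?_ ha1).symm
  rw [mem_cj]
  have : x⁻¹ * a * x = a := by rw [mul_assoc, ← h]; simp
  rw [this]; exact ha

theorem centralizer_le_normalizer (hA : WTI A) {a : G} (ha : a ∈ A) (ha1 : a ≠ 1) :
    centralizer ({a} : Set G) ≤ normalizer (A : Set G) := by
  intro x hx
  exact hA.mem_normalizer_of_commute ha ha1 (Subgroup.mem_centralizer_singleton_iff.mp hx)

/-- normalizers: if `g` maps a nontrivial element of `A` into `A` then `g` normalises `A` -/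
theorem mem_normalizer_of_conj_mem (hA : WTI A) {a g : G} (ha : a ∈ A) (ha1 : a ≠ 1)
    (h : g * a * g⁻¹ ∈ A) : g ∈ normalizer (A : Set G) := by
  rw [mem_normalizer_iff_cj]
  refine (hA.eq_of_mem (B := MulAut.conj g • A) ⟨g, rfl⟩ h (conj_mem_cj ha) ?_).symm
  intro h1
  exact ha1 (by simpa only [_root_.conj_eq_one_iff] using h1)

/-- S1179 form of the hypothesis. -/
theorem eq_of_le_centralizer (hA : WTI A) (hB : Cj A B) {a : G} (ha : a ∈ A) (ha1 : a ≠ 1)
    (h : ∀ b ∈ B, b * a = a * b) : A = B :=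
  hA.eq_of_le_normalizer hB fun b hb => hA.mem_normalizer_of_commute ha ha1 (h b hb)

/-- Every finite 2-subgroup containing `A` normalises `A`. -/
theorem le_normalizer_of_isPGroup (hA : WTI A) {T : Subgroup G} [Finite T] (hT : IsPGroup 2 T)
    (hAT : A ≤ T) : T ≤ normalizer (A : Set G) := by
  haveI : Fact (Nat.Prime 2) := ⟨Nat.prime_two⟩
  have hnil : Group.IsNilpotent T := hT.isNilpotent
  have hnc := Group.normalizerCondition_of_isNilpotent (G := T)
  rw [_root_.normalizerCondition_iff_only_full_group_self_normalizing] at hnc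
  have key : (normalizer (A : Set G)).subgroupOf T = ⊤ := by
    apply hnc
    apply le_antisymm _ Subgroup.le_normalizer
    intro t ht
    rw [Subgroup.mem_subgroupOf, mem_normalizer_iff_cj]
    apply hA.wc
    intro x hx
    have hx' := hx
    rw [mem_cj] at hx
    -- y = t⁻¹ x t ∈ A ≤ T
    have hy : (t : G)⁻¹ * x * t ∈ T := hAT hx
    have hxT : x ∈ T := by
      have := T.mul_mem (T.mul_mem t.2 hy) (T.inv_mem t.2)
      simpa only [mul_assoc, _root_.mul_inv_cancel_left, _root_.mul_inv_cancel, _root_.mul_one] using this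
    have h1 : (⟨(t : G)⁻¹ * x * t, hy⟩ : T) ∈ (normalizer (A : Set G)).subgroupOf T := by
      rw [Subgroup.mem_subgroupOf]
      exact le_normalizer_self A hx
    have h2 := (Subgroup.mem_normalizer_iff.mp ht _).mp h1
    rw [Subgroup.mem_subgroupOf] at h2
    simpa only [mul_assoc, _root_.Subgroup.coe_mul, _root_.InvMemClass.coe_inv, _root_.mul_inv_cancel, _root_.mul_one, _root_.mul_inv_cancel_left] using h2
  rw [Subgroup.subgroupOf_eq_top] at key
  exact key

theorem isPGroup (hA : WTI A) : IsPGroup 2 A := by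
  intro a
  refine ⟨1, ?_⟩
  ext
  simpa only [pow_two, _root_.pow_one, _root_.Subgroup.coe_mul, _root_.OneMemClass.coe_one] using hA.sq a a.2

/-- two members inside one finite 2-subgroup are equal -/
theorem eq_of_isPGroup (hA : WTI A) (hB : Cj A B) {T : Subgroup G} [Finite T] (hT : IsPGroup 2 T)
    (hAT : A ≤ T) (hBT : B ≤ T) : A = B :=
  hA.eq_of_le_normalizer hB (hBT.trans (hA.le_normalizer_of_isPGroup hT hAT))

/-- Members contained in `H` are conjugate in `H`. -/
theorem exists_conj_of_le [Finite G] (hA : WTI A) (hB : Cj A B) {H : Subgroup G}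
    (hAH : A ≤ H) (hBH : B ≤ H) : ∃ h ∈ H, B = MulAut.conj h • A := by
  haveI : Fact (Nat.Prime 2) := ⟨Nat.prime_two⟩
  have hBw := hA.of_cj hB
  have hpA : IsPGroup 2 (A.subgroupOf H) :=
    (hA.isPGroup).of_injective (Subgroup.inclusion (le_refl A) |>.comp
      (Subgroup.subgroupOfEquivOfLe hAH).toMonoidHom) (by
        intro x y hxy
        exact (Subgroup.subgroupOfEquivOfLe hAH).injective hxy)
  have hpB : IsPGroup 2 (B.subgroupOf H) :=
    (hBw.isPGroup).of_injective (Subgroup.inclusion (le_refl B) |>.comp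
      (Subgroup.subgroupOfEquivOfLe hBH).toMonoidHom) (by
        intro x y hxy
        exact (Subgroup.subgroupOfEquivOfLe hBH).injective hxy)
  obtain ⟨P, hP⟩ := hpA.exists_le_sylow
  obtain ⟨Q, hQ⟩ := hpB.exists_le_sylow
  obtain ⟨h, hh⟩ := MulAction.exists_smul_eq H P Q
  refine ⟨h, h.2, ?_⟩
  -- conj h A and B both lie in Q (as subgroup of G)
  let T : Subgroup G := (Q : Subgroup H).map H.subtype
  have hT : IsPGroup 2 T := Q.isPGroup'.map _
  have h1 : B ≤ T := by
    intro x hx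
    exact ⟨⟨x, hBH hx⟩, hQ (Subgroup.mem_subgroupOf.mpr hx), rfl⟩
  have h2 : MulAut.conj (h : G) • A ≤ T := by
    intro x hx
    rw [mem_cj] at hx
    have hx1 : (⟨(h : G)⁻¹ * x * h, hAH hx⟩ : H) ∈ P := hP (Subgroup.mem_subgroupOf.mpr hx)
    refine ⟨h * ⟨(h : G)⁻¹ * x * h, hAH hx⟩ * h⁻¹, ?_, ?_⟩
    · have : h * ⟨(h : G)⁻¹ * x * h, hAH hx⟩ * h⁻¹ ∈ h • P := by
        rw [Sylow.smul_def, ← SetLike.mem_coe]
        exact ⟨_, hx1, rfl⟩
      rw [hh] at this
      exact this
    · simp only [mul_assoc, _root_.Subgroup.subtype_apply, _root_.Subgroup.coe_mul, _root_.InvMemClass.coe_inv, _root_.mul_inv_cancel, _root_.mul_one, _root_.mul_inv_cancel_left]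
  exact ((hA.cj (h : G)).eq_of_isPGroup ((Cj.symm ⟨(h : G), rfl⟩).trans hB) hT h2 h1).symm

/-- The property passes to intermediate subgroups. -/
theorem subgroupOf (hA : WTI A) {H : Subgroup G} (hAH : A ≤ H) : WTI (A.subgroupOf H) where
  comm := by
    intro a ha b hb
    ext
    exact hA.comm _ ha _ hb
  sq := by
    intro a ha
    ext
    exact hA.sq _ ha
  ne := by
    intro h
    apply hA.ne
    rw [Subgroup.subgroupOf_eq_bot, disjoint_iff] at h
    rwa [inf_eq_left.mpr hAH] at h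
  ti := by
    intro g
    rcases hA.ti g with h | h
    · left
      ext x
      rw [mem_cj, Subgroup.mem_subgroupOf, Subgroup.mem_subgroupOf]
      have := SetLike.ext_iff.mp h (x : G)
      rw [mem_cj] at this
      simpa only [_root_.Subgroup.coe_mul, _root_.InvMemClass.coe_inv] using this
    · right
      rw [Subgroup.eq_bot_iff_forall] at h ⊢
      intro x hx
      rw [Subgroup.mem_inf, mem_cj, Subgroup.mem_subgroupOf, Subgroup.mem_subgroupOf] at hx
      ext
      apply h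
      rw [Subgroup.mem_inf, mem_cj]
      exact ⟨by simpa only [_root_.Subgroup.coe_mul, _root_.InvMemClass.coe_inv] using hx.1, hx.2⟩
  wc := by
    intro g hg
    have h1 := hA.wc g (by
      intro x hx
      rw [mem_cj] at hx
      have hxH : x ∈ H := by
        have := H.mul_mem (H.mul_mem g.2 (hAH hx)) (H.inv_mem g.2)
        simpa [mul_assoc] using this
      have h2 : (⟨x, hxH⟩ : H) ∈ MulAut.conj g • A.subgroupOf H := by
        rw [mem_cj, Subgroup.mem_subgroupOf]
        simpa only [_root_.Subgroup.coe_mul, _root_.InvMemClass.coe_inv] using hx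
      have h3 := hg h2
      rw [Subgroup.mem_normalizer_iff] at h3 ⊢
      intro y
      constructor
      · intro hy
        have := (h3 ⟨y, hAH hy⟩).mp (Subgroup.mem_subgroupOf.mpr hy)
        rw [Subgroup.mem_subgroupOf] at this
        simpa only [_root_.MulMemClass.mk_mul_mk, _root_.Subgroup.coe_mul, _root_.InvMemClass.coe_inv] using this
      · intro hy
        have hyH : y ∈ H := by
          have := H.mul_mem (H.mul_mem (H.inv_mem hxH) (hAH hy)) hxH
          simpa [mul_assoc] using this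
        have := (h3 ⟨y, hyH⟩).mpr (by rw [Subgroup.mem_subgroupOf]; simpa only [_root_.MulMemClass.mk_mul_mk, _root_.Subgroup.coe_mul, _root_.InvMemClass.coe_inv] using hy)
        rw [Subgroup.mem_subgroupOf] at this
        exact this)
    ext x
    rw [mem_cj, Subgroup.mem_subgroupOf, Subgroup.mem_subgroupOf]
    have := SetLike.ext_iff.mp h1 (x : G)
    rw [mem_cj] at this
    simpa only [_root_.Subgroup.coe_mul, _root_.InvMemClass.coe_inv] using this

end WTI

/-- S1764 hypotheses give `WTI`. -/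
theorem wti_of_ti {B : Subgroup G} (hB : Cfsg.IsElementaryAbelian 2 B) (hne : B ≠ ⊥)
    (hti : ∀ g : G, B.map (MulAut.conj g).toMonoidHom = B ∨ B.map (MulAut.conj g).toMonoidHom ⊓ B = ⊥)
    (hwc : ∀ g : G, B.map (MulAut.conj g).toMonoidHom ≤ Subgroup.normalizer (B : Set G) →
      B.map (MulAut.conj g).toMonoidHom = B) : WTI B where
  comm := fun a ha b hb => by
    have := hB.1.is_comm.comm ⟨a, ha⟩ ⟨b, hb⟩
    exact congrArg Subtype.val this
  sq := fun a ha => by
    have := hB.2 a ha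
    rwa [pow_two] at this
  ne := hne
  ti := fun g => by rw [cj_eq_map]; exact hti g
  wc := fun g => by rw [cj_eq_map]; exact hwc g

/-- S1179 hypotheses give `WTI`. -/
theorem wti_of_centralizer [Finite G] {A : Subgroup G} (hA : Cfsg.IsElementaryAbelian 2 A)
    (hne : A ≠ ⊥)
    (hwc : ∀ a ∈ A, a ≠ 1 → ∀ g : G, A.map (MulAut.conj g).toMonoidHom ≤
      Subgroup.centralizer ({a} : Set G) → A.map (MulAut.conj g).toMonoidHom = A) : WTI A := by
  have hcomm : ∀ a ∈ A, ∀ b ∈ A, a * b = b * a := fun a ha b hb => by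
    have := hA.1.is_comm.comm ⟨a, ha⟩ ⟨b, hb⟩
    exact congrArg Subtype.val this
  have hsq : ∀ a ∈ A, a * a = 1 := fun a ha => by
    have := hA.2 a ha
    rwa [pow_two] at this
  refine ⟨hcomm, hsq, hne, ?_, ?_⟩
  · intro g
    by_cases h : MulAut.conj g • A ⊓ A = ⊥
    · exact Or.inr h
    · left
      obtain ⟨x, hx, hx1⟩ : ∃ x : G, (x ∈ MulAut.conj g • A ∧ x ∈ A) ∧ x ≠ 1 := by
        by_contra hcon
        push Not at hcon
        exact h (Subgroup.eq_bot_iff_forall _ |>.mpr fun x hx => hcon x ⟨hx.1, hx.2⟩)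
      rw [cj_eq_map]
      apply hwc x hx.2 hx1
      rw [← cj_eq_map]
      intro y hy
      rw [Subgroup.mem_centralizer_singleton_iff]
      have hx' := hx.1
      rw [mem_cj] at hx' hy
      have := hcomm _ hx' _ hy
      have h2 : g * (g⁻¹ * x * g * (g⁻¹ * y * g)) * g⁻¹ = g * (g⁻¹ * y * g * (g⁻¹ * x * g)) * g⁻¹ := by
        rw [this]
      simpa only [mul_assoc, _root_.mul_inv_cancel_left, _root_.mul_inv_cancel, _root_.mul_one] using h2.symm
  · intro g hg
    haveI : Fact (Nat.Prime 2) := ⟨Nat.prime_two⟩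
    -- the 2-group `A^g` acts on `A`; it has a nontrivial fixed point
    have hpg : IsPGroup 2 (MulAut.conj g • A : Subgroup G) := by
      intro y
      refine ⟨1, ?_⟩
      ext
      have hy := y.2
      rw [mem_cj] at hy
      have := hsq _ hy
      have h2 : g * (g⁻¹ * (y : G) * g * (g⁻¹ * (y : G) * g)) * g⁻¹ = 1 := by rw [this]; simp
      simpa only [pow_two, mul_assoc, _root_.pow_one, _root_.Subgroup.coe_mul, _root_.OneMemClass.coe_one, _root_.mul_inv_cancel_left, _root_.mul_inv_cancel, _root_.mul_one] using h2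
    letI act : MulAction (MulAut.conj g • A : Subgroup G) A :=
      { smul := fun b a => ⟨(b : G) * a * (b : G)⁻¹, conj_mem_of_mem_normalizer (hg b.2) a.2⟩
        one_smul := fun a => by
          apply Subtype.ext
          show ((1 : (MulAut.conj g • A : Subgroup G)) : G) * a * ((1 : (MulAut.conj g • A : Subgroup G)) : G)⁻¹ = a
          simp only [_root_.OneMemClass.coe_one, _root_.one_mul, _root_.inv_one, _root_.mul_one]
        mul_smul := fun b c a => by
          apply Subtype.ext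
          show ((b * c : (MulAut.conj g • A : Subgroup G)) : G) * a * ((b * c : (MulAut.conj g • A : Subgroup G)) : G)⁻¹
            = (b : G) * ((c : G) * a * (c : G)⁻¹) * (b : G)⁻¹
          simp only [mul_assoc, _root_.Subgroup.coe_mul, _root_.mul_inv_rev] }
    have hcard : 2 ∣ Nat.card A := by
      obtain ⟨x, hx1⟩ := (Subgroup.ne_bot_iff_exists_ne_one).mp hne
      have hox : orderOf (x : A) = 2 := by
        apply orderOf_eq_prime _ hx1
        ext
        simpa only [pow_two, _root_.Subgroup.coe_mul, _root_.OneMemClass.coe_one] using hsq x x.2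
      rw [← hox]
      exact _root_.orderOf_dvd_natCard x
    have hfix1 : (1 : A) ∈ MulAction.fixedPoints (MulAut.conj g • A : Subgroup G) A := by
      intro b
      apply Subtype.ext
      show (b : G) * ((1 : A) : G) * (b : G)⁻¹ = ((1 : A) : G)
      simp
    obtain ⟨a, ha, hne'⟩ := hpg.exists_fixed_point_of_prime_dvd_card_of_fixed_point A hcard hfix1
    rw [cj_eq_map]
    apply hwc a a.2 (fun h => hne' (Subtype.ext (by simpa using h.symm)))
    rw [← cj_eq_map]
    intro b hb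
    rw [Subgroup.mem_centralizer_singleton_iff]
    have := congrArg Subtype.val (ha ⟨b, hb⟩)
    have h3 : b * (a : G) * b⁻¹ = a := this
    calc b * (a : G) = (b * (a : G) * b⁻¹) * b := by simp
      _ = a * b := by rw [h3]

end Cfsg.Agent.WeakTI.Basic
end

-- part: WeakTI/PairBasic
section
set_option linter.all false
open scoped Cfsg.Agent.FastGrp

/-!
Pairs of members of a class of weakly closed TI subgroups: `N_A(B)`, the group `U = N_A(B) N_B(A)`.
-/

set_option autoImplicit false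

namespace Cfsg.Agent.WeakTI.PairBasic

open Subgroup Pointwise Basic

variable {G : Type*} [Group G] {A B C : Subgroup G}

/-- `nrm A B = N_A(B)` -/
def nrm (A B : Subgroup G) : Subgroup G := A ⊓ normalizer (B : Set G)

theorem mem_nrm {x : G} : x ∈ nrm A B ↔ x ∈ A ∧ x ∈ normalizer (B : Set G) := Subgroup.mem_inf

theorem nrm_le : nrm A B ≤ A := inf_le_left

theorem nrm_le_normalizer : nrm A B ≤ normalizer (B : Set G) := inf_le_right

/-- `br a b = a (b a b⁻¹) = [a, b]` for an involution `a`. -/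
def br (a b : G) : G := a * (b * a * b⁻¹)

theorem br_mem_left (a b : G) (ha : a ∈ A) (hb : b ∈ normalizer (A : Set G)) : br a b ∈ A :=
  A.mul_mem ha (conj_mem_of_mem_normalizer hb ha)

/-- adjacent distinct members -/
structure Pair (A B : Subgroup G) : Prop where
  wa : WTI A
  cj : Cj A B
  ne : A ≠ B
  nb : nrm A B ≠ ⊥

/-- `N_A(B)` and `N_B(A)` commute. -/
theorem commute_nrm (hA : WTI A) (hB : Cj A B) (hne : A ≠ B) {a b : G} (ha : a ∈ nrm A B)
    (hb : b ∈ nrm B A) : a * b = b * a := by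
  have h1 : a * b * a⁻¹ * b⁻¹ ∈ A := by
    have := A.mul_mem ha.1 (conj_mem_of_mem_normalizer hb.2 (A.inv_mem ha.1))
    simpa only [mul_assoc] using this
  have h2 : a * b * a⁻¹ * b⁻¹ ∈ B :=
    B.mul_mem (conj_mem_of_mem_normalizer ha.2 hb.1) (B.inv_mem hb.1)
  have h3 := hA.eq_one_of_mem hB hne h1 h2
  have h4 : a * b * a⁻¹ = b := by
    have := mul_eq_one_iff_eq_inv.mp h3
    rwa [inv_inv] at this
  calc a * b = (a * b * a⁻¹) * a := by simp
    _ = b * a := by rw [h4]

/-- an element of `B` commuting with a nontrivial element of `A` normalises `A` -/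
theorem mem_nrm_of_commute (hA : WTI A) {a b : G} (ha : a ∈ A) (ha1 : a ≠ 1) (hb : b ∈ B)
    (h : a * b = b * a) : b ∈ nrm B A :=
  mem_nrm.mpr ⟨hb, hA.mem_normalizer_of_commute ha ha1 h.symm⟩

theorem exists_mem_ne_one {H : Subgroup G} (h : H ≠ ⊥) : ∃ x ∈ H, x ≠ 1 := by
  by_contra hcon
  push Not at hcon
  exact h ((Subgroup.eq_bot_iff_forall _).mpr hcon)

theorem nrm_ne_bot_symm (hA : WTI A) (hB : Cj A B) (h : nrm A B ≠ ⊥) : nrm B A ≠ ⊥ := by
  obtain ⟨a, ha, ha1⟩ := exists_mem_ne_one h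
  have hBw := hA.of_cj hB
  obtain ⟨b, hb, hb1⟩ := exists_mem_ne_one hBw.ne
  have hc : b * (a * b * a⁻¹) ∈ B := B.mul_mem hb (conj_mem_of_mem_normalizer ha.2 hb)
  have haa : a * a = 1 := hA.sq a ha.1
  by_cases hc1 : b * (a * b * a⁻¹) = 1
  · have h1 : a * b * a⁻¹ = b := by
      have := (mul_eq_one_iff_inv_eq.mp hc1).symm
      rwa [hBw.inv_eq hb] at this
    have h2 : a * b = b * a := by
      calc a * b = (a * b * a⁻¹) * a := by simp
        _ = b * a := by rw [h1]
    intro h0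
    have := mem_nrm_of_commute hA ha.1 ha1 hb h2
    rw [h0] at this
    exact hb1 (Subgroup.mem_bot.mp this)
  · have h2 : a * (b * (a * b * a⁻¹)) = (b * (a * b * a⁻¹)) * a := by
      have hcomm := hBw.comm _ hb _ (conj_mem_of_mem_normalizer ha.2 hb)
      have hai : a⁻¹ = a := hA.inv_eq ha.1
      rw [hai] at hcomm ⊢
      calc a * (b * (a * b * a)) = (a * b * a) * b * a := by simp only [mul_assoc]
        _ = (b * (a * b * a)) * a := by rw [hcomm]
    intro h0
    have := mem_nrm_of_commute hA ha.1 ha1 hc h2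
    rw [h0] at this
    exact hc1 (Subgroup.mem_bot.mp this)

namespace Pair

theorem wb (h : Pair A B) : WTI B := h.wa.of_cj h.cj

theorem symm (h : Pair A B) : Pair B A :=
  ⟨h.wb, h.cj.symm, h.ne.symm, nrm_ne_bot_symm h.wa h.cj h.nb⟩

theorem commute (h : Pair A B) {a b : G} (ha : a ∈ nrm A B) (hb : b ∈ nrm B A) : a * b = b * a :=
  commute_nrm h.wa h.cj h.ne ha hb

theorem conj (h : Pair A B) (g : G) : Pair (MulAut.conj g • A) (MulAut.conj g • B) where
  wa := h.wa.cj g
  cj := (Cj.symm ⟨g, rfl⟩).trans (h.cj.conj g)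
  ne := fun he => h.ne (smul_left_cancel _ he)
  nb := by
    obtain ⟨a, ha, ha1⟩ := exists_mem_ne_one h.nb
    intro h0
    have : g * a * g⁻¹ ∈ nrm (MulAut.conj g • A) (MulAut.conj g • B) := by
      refine mem_nrm.mpr ⟨conj_mem_cj ha.1, ?_⟩
      rw [mem_normalizer_iff_cj, ← cj_mul]
      have := ha.2
      have h2 := mem_normalizer_iff_cj.mp this
      rw [show g * a * g⁻¹ * g = g * a by group, cj_mul, h2]
    rw [h0, Subgroup.mem_bot] at this
    exact ha1 (by simpa only [_root_.conj_eq_one_iff] using this)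

/-- `[a, b] ∈ N_A(B)` for `a ∈ A`, `b ∈ N_B(A)`. -/
theorem br_mem (h : Pair A B) {a b : G} (ha : a ∈ A) (hb : b ∈ nrm B A) : br a b ∈ nrm A B := by
  have h1 : br a b ∈ A := br_mem_left a b ha hb.2
  by_cases hb1 : b = 1
  · subst hb1
    have : br a 1 = 1 := by
      unfold br; simpa only [_root_.one_mul, _root_.inv_one, _root_.mul_one] using h.wa.sq a ha
    rw [this]
    exact Subgroup.one_mem _
  · have hbi : b⁻¹ = b := h.wb.inv_eq hb.1
    have hbb : b * b = 1 := h.wb.sq b hb.1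
    have hconj : b * a * b⁻¹ ∈ A := conj_mem_of_mem_normalizer hb.2 ha
    refine mem_nrm_of_commute h.wb hb.1 hb1 h1 ?_
    have hcomm := h.wa.comm _ ha _ hconj
    unfold br
    rw [hbi] at hcomm ⊢
    calc b * (a * (b * a * b)) = (b * a * b) * a * b := by simp only [mul_assoc]
      _ = (a * (b * a * b)) * b := by rw [← hcomm]

/-- conjugation formula -/
theorem conj_eq (h : Pair A B) {a b : G} (ha : a ∈ A) : b * a * b⁻¹ = a * br a b := by
  unfold br
  rw [← mul_assoc, h.wa.sq a ha, one_mul]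

theorem conj_eq' (h : Pair A B) {a b : G} (ha : a ∈ A) (_hb : b ∈ nrm B A) :
    a * b * a⁻¹ = br a b * b := by
  unfold br
  rw [h.wa.inv_eq ha]
  simp [mul_assoc]

theorem exists_not_mem (h : Pair A B) : ∃ a ∈ A, a ∉ nrm A B := by
  by_contra hcon
  push Not at hcon
  exact h.ne (h.wb.eq_of_le_normalizer h.cj.symm fun a ha => (hcon a ha).2).symm

theorem not_le (h : Pair A B) : ¬ A ≤ nrm A B := by
  obtain ⟨a, ha, ha1⟩ := h.exists_not_mem
  exact fun hle => ha1 (hle ha)

/-- `C_{N_B(A)}(a) = 1` for `a ∈ A ∖ N_A(B)`. -/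
theorem eq_one_of_commute (h : Pair A B) {a b : G} (ha : a ∈ A) (ha' : a ∉ nrm A B) (hb : b ∈ B)
    (hc : a * b = b * a) : b = 1 := by
  by_contra hb1
  exact ha' (mem_nrm_of_commute h.wb hb hb1 ha hc.symm)

/-- `C_A(b) = N_A(B)` for `b ∈ N_B(A)`, `b ≠ 1`. -/
theorem mem_nrm_iff_commute (h : Pair A B) {a b : G} (ha : a ∈ A) (hb : b ∈ nrm B A) (hb1 : b ≠ 1) :
    a ∈ nrm A B ↔ a * b = b * a :=
  ⟨fun h' => h.commute h' hb, fun h' => mem_nrm_of_commute h.wb hb.1 hb1 ha h'.symm⟩

theorem br_eq_one_iff (h : Pair A B) {a b : G} (ha : a ∈ A) :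
    br a b = 1 ↔ a * b = b * a := by
  unfold br
  constructor
  · intro h1
    have h2 := (mul_eq_one_iff_inv_eq.mp h1).symm
    rw [h.wa.inv_eq ha] at h2
    calc a * b = (b * a * b⁻¹) * b := by rw [h2]
      _ = b * a := by simp
  · intro h1
    rw [← h1]
    simpa only [_root_.mul_inv_cancel_right] using h.wa.sq a ha

theorem br_mul_right (h : Pair A B) {a b b' : G} (ha : a ∈ A) (hb : b ∈ nrm B A)
    (hb' : b' ∈ nrm B A) : br a (b * b') = br a b * br a b' := by
  have h1 := h.conj_eq (b := b') ha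
  have h2 : b * br a b' * b⁻¹ = br a b' := by
    have := h.commute (h.br_mem ha hb') hb
    rw [← this]; simp
  calc br a (b * b') = a * (b * (b' * a * b'⁻¹) * b⁻¹) := by unfold br; simp only [mul_assoc, _root_.mul_inv_rev]
    _ = a * ((b * a * b⁻¹) * (b * br a b' * b⁻¹)) := by rw [h1]; simp [mul_assoc]
    _ = br a b * br a b' := by rw [h2]; unfold br; simp [mul_assoc]

theorem br_mul_left (h : Pair A B) {a a' b : G} (ha : a ∈ A) (ha' : a' ∈ A) (hb : b ∈ nrm B A) :
    br (a * a') b = br a b * br a' b := by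
  have hconj : b * a * b⁻¹ ∈ A := conj_mem_of_mem_normalizer hb.2 ha
  have h1 := h.wa.comm _ ha' _ hconj
  calc br (a * a') b = a * (a' * (b * a * b⁻¹)) * (b * a' * b⁻¹) := by unfold br; simp only [mul_assoc, _root_.inv_mul_cancel_left]
    _ = a * ((b * a * b⁻¹) * a') * (b * a' * b⁻¹) := by rw [h1]
    _ = br a b * br a' b := by unfold br; simp only [mul_assoc]

/-- the homomorphism `b ↦ [a, b]` -/
def brHom (h : Pair A B) (a : A) : nrm B A →* nrm A B where
  toFun b := ⟨br (a : G) b, h.br_mem a.2 b.2⟩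
  map_one' := by
    apply Subtype.ext
    show br (a : G) ((1 : nrm B A) : G) = 1
    unfold br
    simpa only [_root_.OneMemClass.coe_one, _root_.one_mul, _root_.inv_one, _root_.mul_one] using h.wa.sq a a.2
  map_mul' b b' := by
    apply Subtype.ext
    exact h.br_mul_right a.2 b.2 b'.2

theorem brHom_injective (h : Pair A B) {a : A} (ha' : (a : G) ∉ nrm A B) :
    Function.Injective (h.brHom a) := by
  rw [injective_iff_map_eq_one]
  intro b hb
  have hb2 : br (a : G) b = 1 := congrArg Subtype.val hb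
  have := (h.br_eq_one_iff a.2).mp hb2
  apply Subtype.ext
  exact h.eq_one_of_commute a.2 ha' b.2.1 this

theorem card_nrm_le [Finite G] (h : Pair A B) : Nat.card (nrm B A) ≤ Nat.card (nrm A B) := by
  obtain ⟨a, ha, ha1⟩ := h.exists_not_mem
  exact Nat.card_le_card_of_injective _ (h.brHom_injective (a := ⟨a, ha⟩) ha1)

theorem card_nrm_eq [Finite G] (h : Pair A B) : Nat.card (nrm B A) = Nat.card (nrm A B) :=
  le_antisymm h.card_nrm_le h.symm.card_nrm_le

theorem brHom_bijective [Finite G] (h : Pair A B) {a : A} (ha' : (a : G) ∉ nrm A B) :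
    Function.Bijective (h.brHom a) :=
  (Nat.bijective_iff_injective_and_card _).mpr ⟨h.brHom_injective ha', h.card_nrm_eq⟩

/-- every element of `N_A(B)` is `[a, b]` for a unique `b ∈ N_B(A)` -/
theorem exists_br_eq [Finite G] (h : Pair A B) {a c : G} (ha : a ∈ A) (ha' : a ∉ nrm A B)
    (hc : c ∈ nrm A B) : ∃ b ∈ nrm B A, br a b = c := by
  obtain ⟨b, hb⟩ := (h.brHom_bijective (a := ⟨a, ha⟩) ha').2 ⟨c, hc⟩
  exact ⟨b, b.2, congrArg Subtype.val hb⟩

/-- `|A| ≤ |N_A(B)|²` -/
theorem card_le [Finite G] (h : Pair A B) : Nat.card A ≤ Nat.card (nrm A B) * Nat.card (nrm A B) := by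
  obtain ⟨b, hb, hb1⟩ := exists_mem_ne_one h.symm.nb
  let f : A →* nrm A B :=
    { toFun := fun a => ⟨br (a : G) b, h.br_mem a.2 hb⟩
      map_one' := by
        apply Subtype.ext
        show br ((1 : A) : G) b = 1
        unfold br; simp
      map_mul' := fun a a' => by
        apply Subtype.ext
        exact h.br_mul_left a.2 a'.2 hb }
  have hker : f.ker.map A.subtype = nrm A B := by
    ext x
    rw [Subgroup.mem_map]
    constructor
    · rintro ⟨a, ha, rfl⟩
      have h1 : br (a : G) b = 1 := congrArg Subtype.val (MonoidHom.mem_ker.mp ha)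
      exact (h.mem_nrm_iff_commute a.2 hb hb1).mpr ((h.br_eq_one_iff a.2).mp h1)
    · intro hx
      refine ⟨⟨x, hx.1⟩, ?_, rfl⟩
      rw [MonoidHom.mem_ker]
      apply Subtype.ext
      exact (h.br_eq_one_iff hx.1).mpr (h.commute hx hb)
  have hck : Nat.card f.ker = Nat.card (nrm A B) := by
    have h0 := Subgroup.card_map_of_injective (K := f.ker) A.subtype_injective
    rw [hker] at h0
    exact h0.symm
  have h1 := f.ker.card_mul_index
  rw [Subgroup.index_ker, hck] at h1
  rw [← h1]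
  exact Nat.mul_le_mul_left _ (Nat.card_le_card_of_injective _ (Subgroup.subtype_injective f.range))

/-- the group `U = N_A(B) × N_B(A)` -/
theorem mem_sup_iff (h : Pair A B) {u : G} :
    u ∈ nrm A B ⊔ nrm B A ↔ ∃ a ∈ nrm A B, ∃ b ∈ nrm B A, a * b = u := by
  constructor
  · intro hu
    let S : Subgroup G :=
      { carrier := {u | ∃ a ∈ nrm A B, ∃ b ∈ nrm B A, a * b = u}
        one_mem' := ⟨1, Subgroup.one_mem _, 1, Subgroup.one_mem _, by simp⟩
        mul_mem' := by
          rintro _ _ ⟨a, ha, b, hb, rfl⟩ ⟨a', ha', b', hb', rfl⟩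
          refine ⟨a * a', Subgroup.mul_mem _ ha ha', b * b', Subgroup.mul_mem _ hb hb', ?_⟩
          have := h.commute ha' hb
          calc a * a' * (b * b') = a * (a' * b) * b' := by simp [mul_assoc]
            _ = a * (b * a') * b' := by rw [this]
            _ = a * b * (a' * b') := by simp [mul_assoc]
        inv_mem' := by
          rintro _ ⟨a, ha, b, hb, rfl⟩
          refine ⟨a⁻¹, Subgroup.inv_mem _ ha, b⁻¹, Subgroup.inv_mem _ hb, ?_⟩
          rw [h.commute (Subgroup.inv_mem _ ha) (Subgroup.inv_mem _ hb), mul_inv_rev] }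
    have hle : nrm A B ⊔ nrm B A ≤ S := by
      rw [sup_le_iff]
      exact ⟨fun a ha => ⟨a, ha, 1, Subgroup.one_mem _, by simp⟩,
        fun b hb => ⟨1, Subgroup.one_mem _, b, hb, by simp⟩⟩
    exact hle hu
  · rintro ⟨a, ha, b, hb, rfl⟩
    exact Subgroup.mul_mem _ (Subgroup.mem_sup_left ha) (Subgroup.mem_sup_right hb)

/-- `U` is elementary abelian -/
theorem sup_comm_sq (h : Pair A B) :
    (∀ u ∈ nrm A B ⊔ nrm B A, ∀ v ∈ nrm A B ⊔ nrm B A, u * v = v * u) ∧
      ∀ u ∈ nrm A B ⊔ nrm B A, u * u = 1 := by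
  constructor
  · intro u hu v hv
    obtain ⟨a, ha, b, hb, rfl⟩ := h.mem_sup_iff.mp hu
    obtain ⟨a', ha', b', hb', rfl⟩ := h.mem_sup_iff.mp hv
    have h1 := h.commute ha' hb
    have h2 := h.commute ha hb'
    have h3 := h.wa.comm _ ha.1 _ ha'.1
    have h4 := h.wb.comm _ hb.1 _ hb'.1
    calc a * b * (a' * b') = a * (a' * b) * b' := by rw [h1]; simp [mul_assoc]
      _ = (a * a') * (b * b') := by simp [mul_assoc]
      _ = (a' * a) * (b' * b) := by rw [h3, h4]
      _ = a' * (a * b') * b := by simp [mul_assoc]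
      _ = a' * b' * (a * b) := by rw [h2]; simp [mul_assoc]
  · intro u hu
    obtain ⟨a, ha, b, hb, rfl⟩ := h.mem_sup_iff.mp hu
    have h1 := h.commute ha hb
    calc a * b * (a * b) = a * (b * a) * b := by simp [mul_assoc]
      _ = a * (a * b) * b := by rw [h1]
      _ = (a * a) * (b * b) := by simp [mul_assoc]
      _ = 1 := by rw [h.wa.sq a ha.1, h.wb.sq b hb.1, one_mul]

/-- `A` normalises `U` -/
theorem conj_mem_sup (h : Pair A B) {a u : G} (ha : a ∈ A) (hu : u ∈ nrm A B ⊔ nrm B A) :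
    a * u * a⁻¹ ∈ nrm A B ⊔ nrm B A := by
  obtain ⟨a', ha', b, hb, rfl⟩ := h.mem_sup_iff.mp hu
  have h1 : a * a' * a⁻¹ = a' := by rw [h.wa.comm _ ha _ ha'.1]; simp
  have h2 := h.conj_eq' ha hb
  have h3 : a * (a' * b) * a⁻¹ = a' * (br a b * b) := by
    calc a * (a' * b) * a⁻¹ = (a * a' * a⁻¹) * (a * b * a⁻¹) := by simp only [mul_assoc, _root_.inv_mul_cancel_left]
      _ = a' * (br a b * b) := by rw [h1, h2]
  rw [h3]
  exact Subgroup.mul_mem _ (Subgroup.mem_sup_left ha')
    (Subgroup.mul_mem _ (Subgroup.mem_sup_left (h.br_mem ha hb)) (Subgroup.mem_sup_right hb))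

theorem le_normalizer_sup (h : Pair A B) :
    A ≤ normalizer ((nrm A B ⊔ nrm B A : Subgroup G) : Set G) := by
  intro a ha
  rw [Subgroup.mem_normalizer_iff]
  intro u
  constructor
  · exact fun hu => h.conj_mem_sup ha hu
  · intro hu
    have := h.conj_mem_sup (A.inv_mem ha) hu
    simpa only [mul_assoc, _root_.inv_mul_cancel_left, _root_.inv_inv, _root_.inv_mul_cancel, _root_.mul_one] using this

theorem sup_le_normalizer_sup (h : Pair A B) :
    A ⊔ B ≤ normalizer ((nrm A B ⊔ nrm B A : Subgroup G) : Set G) := by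
  refine sup_le h.le_normalizer_sup ?_
  have := h.symm.le_normalizer_sup
  rwa [sup_comm] at this

/-- `U` normalises `A` -/
theorem sup_le_normalizer (_h : Pair A B) : nrm A B ⊔ nrm B A ≤ normalizer (A : Set G) :=
  sup_le (nrm_le.trans Subgroup.le_normalizer) nrm_le_normalizer

/-- `C_U(a) = N_A(B)` for `a ∈ A ∖ N_A(B)` -/
theorem mem_nrm_of_mem_sup_of_commute (h : Pair A B) {a u : G} (ha : a ∈ A) (ha' : a ∉ nrm A B)
    (hu : u ∈ nrm A B ⊔ nrm B A) (hc : a * u = u * a) : u ∈ nrm A B := by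
  obtain ⟨a', ha1, b, hb, rfl⟩ := h.mem_sup_iff.mp hu
  have h1 := h.wa.comm _ ha _ ha1.1
  have h2 : a * b = b * a := by
    have : a' * (a * b) = a' * (b * a) := by
      rw [← mul_assoc, ← h1, mul_assoc, hc]; simp [mul_assoc]
    exact mul_left_cancel this
  have := h.eq_one_of_commute ha ha' hb.1 h2
  rw [this, mul_one]
  exact ha1

/-- `U ∩ A = N_A(B)` -/
theorem mem_nrm_of_mem_sup (h : Pair A B) {u : G} (hu : u ∈ nrm A B ⊔ nrm B A) (huA : u ∈ A) :
    u ∈ nrm A B := by
  obtain ⟨a, ha, ha'⟩ := h.exists_not_mem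
  exact h.mem_nrm_of_mem_sup_of_commute ha ha' hu (h.wa.comm _ ha _ huA)

/-- commutators with `a ∈ A` of elements of `U` lie in `N_A(B)` -/
theorem mul_conj_mem_nrm (h : Pair A B) {a u : G} (ha : a ∈ A) (hu : u ∈ nrm A B ⊔ nrm B A) :
    u * (a * u * a⁻¹) ∈ nrm A B := by
  obtain ⟨a', ha', b, hb, rfl⟩ := h.mem_sup_iff.mp hu
  have h1 : a * a' * a⁻¹ = a' := by rw [h.wa.comm _ ha _ ha'.1]; simp
  have h2 := h.conj_eq' ha hb
  have h3 : a * (a' * b) * a⁻¹ = a' * (br a b * b) := by
    calc a * (a' * b) * a⁻¹ = (a * a' * a⁻¹) * (a * b * a⁻¹) := by simp only [mul_assoc, _root_.inv_mul_cancel_left]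
      _ = a' * (br a b * b) := by rw [h1, h2]
  have h4 := h.commute (h.br_mem ha hb) hb
  have h5 := h.commute ha' hb
  have h6 : a' * b * (a' * (br a b * b)) = br a b := by
    rw [h4]
    calc a' * b * (a' * (b * br a b)) = a' * (b * a') * b * br a b := by simp [mul_assoc]
      _ = a' * (a' * b) * b * br a b := by rw [h5]
      _ = (a' * a') * (b * b) * br a b := by simp [mul_assoc]
      _ = br a b := by rw [h.wa.sq a' ha'.1, h.wb.sq b hb.1]; simp
  rw [h3, h6]
  exact h.br_mem ha hb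

/-- card bound for invariant subgroups of `U` -/
theorem card_le_of_invariant [Finite G] (h : Pair A B) {W : Subgroup G}
    (hWU : W ≤ nrm A B ⊔ nrm B A) {a : G} (ha : a ∈ A) (ha' : a ∉ nrm A B)
    (haW : ∀ w ∈ W, a * w * a⁻¹ ∈ W) :
    Nat.card W ≤ Nat.card (W ⊓ A : Subgroup G) * Nat.card (W ⊓ A : Subgroup G) := by
  have hUc := h.sup_comm_sq
  let f : W →* (W ⊓ A : Subgroup G) :=
    { toFun := fun w => ⟨(w : G) * (a * w * a⁻¹),
        W.mul_mem w.2 (haW _ w.2), (h.mul_conj_mem_nrm ha (hWU w.2)).1⟩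
      map_one' := by
        apply Subtype.ext
        show ((1 : W) : G) * (a * ((1 : W) : G) * a⁻¹) = 1
        simp
      map_mul' := fun w w' => by
        apply Subtype.ext
        show ((w * w' : W) : G) * (a * ((w * w' : W) : G) * a⁻¹) =
          ((w : G) * (a * w * a⁻¹)) * ((w' : G) * (a * w' * a⁻¹))
        have hc := hUc.1 _ (hWU w'.2) _ (hWU (haW _ w.2))
        calc ((w * w' : W) : G) * (a * ((w * w' : W) : G) * a⁻¹)
            = (w : G) * ((w' : G) * (a * w * a⁻¹)) * (a * w' * a⁻¹) := by simp only [mul_assoc, _root_.Subgroup.coe_mul, _root_.inv_mul_cancel_left]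
          _ = (w : G) * ((a * w * a⁻¹) * (w' : G)) * (a * w' * a⁻¹) := by rw [hc]
          _ = ((w : G) * (a * w * a⁻¹)) * ((w' : G) * (a * w' * a⁻¹)) := by simp only [mul_assoc] }
  have hker : f.ker.map W.subtype ≤ W ⊓ A := by
    rintro _ ⟨w, hw, rfl⟩
    refine ⟨w.2, ?_⟩
    have h1 : (w : G) * (a * w * a⁻¹) = 1 := congrArg Subtype.val (MonoidHom.mem_ker.mp hw)
    have h2 : a * (w : G) * a⁻¹ = w := by
      have h3 := (mul_eq_one_iff_inv_eq.mp h1).symm
      rw [h3]
      exact inv_eq_of_mul_eq_one_left (hUc.2 _ (hWU w.2))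
    refine (h.mem_nrm_of_mem_sup_of_commute ha ha' (hWU w.2) ?_).1
    calc a * (w : G) = (a * (w : G) * a⁻¹) * a := by simp
      _ = w * a := by rw [h2]
  have hck : Nat.card f.ker ≤ Nat.card (W ⊓ A : Subgroup G) := by
    rw [← Subgroup.card_map_of_injective W.subtype_injective]
    exact Nat.card_le_card_of_injective _ (Subgroup.inclusion_injective hker)
  have h1 := f.ker.card_mul_index
  rw [Subgroup.index_ker] at h1
  rw [← h1]
  exact Nat.mul_le_mul hck (Nat.card_le_card_of_injective _ (Subgroup.subtype_injective f.range))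

/-- an `⟨a,b⟩`-invariant subgroup of `U` is the product of its intersections with `A` and `B` -/
theorem split_of_invariant [Finite G] (h : Pair A B) {W : Subgroup G}
    (hWU : W ≤ nrm A B ⊔ nrm B A) {a : G} (ha : a ∈ A) (ha' : a ∉ nrm A B)
    (haW : ∀ w ∈ W, a * w * a⁻¹ ∈ W) {b : G} (hb : b ∈ B) (hb' : b ∉ nrm B A)
    (hbW : ∀ w ∈ W, b * w * b⁻¹ ∈ W) :
    ∀ w ∈ W, ∃ x ∈ W ⊓ A, ∃ y ∈ W ⊓ B, x * y = w := by
  have h1 := h.card_le_of_invariant hWU ha ha' haW
  have h2 := h.symm.card_le_of_invariant (W := W) (by rw [sup_comm]; exact hWU) hb hb' hbW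
  -- the multiplication map is injective
  let m : (W ⊓ A : Subgroup G) × (W ⊓ B : Subgroup G) → W :=
    fun p => ⟨(p.1 : G) * (p.2 : G), W.mul_mem p.1.2.1 p.2.2.1⟩
  have hinj : Function.Injective m := by
    rintro ⟨x, y⟩ ⟨x', y'⟩ hxy
    have he : (x : G) * y = x' * y' := congrArg Subtype.val hxy
    have he2 : (x' : G)⁻¹ * x = y' * (y : G)⁻¹ := by
      rw [inv_mul_eq_iff_eq_mul, ← mul_assoc, ← he]; simp
    have he3 := h.wa.eq_one_of_mem h.cj h.ne (x := (x' : G)⁻¹ * x)
      (A.mul_mem (A.inv_mem x'.2.2) x.2.2) (by rw [he2]; exact B.mul_mem y'.2.2 (B.inv_mem y.2.2))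
    have hx : x' = x := Subtype.ext (by rw [inv_mul_eq_one] at he3; exact he3)
    rw [he3] at he2
    have hy : y' = y := Subtype.ext (by
      have := he2.symm
      rwa [mul_inv_eq_one] at this)
    rw [hx, hy]
  have hcard : Nat.card W ≤ Nat.card ((W ⊓ A : Subgroup G) × (W ⊓ B : Subgroup G)) := by
    rw [Nat.card_prod]
    rcases le_total (Nat.card (W ⊓ A : Subgroup G)) (Nat.card (W ⊓ B : Subgroup G)) with hle | hle
    · exact h1.trans (Nat.mul_le_mul_left _ hle)
    · exact h2.trans (Nat.mul_le_mul_right _ hle)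
  have hbij : Function.Bijective m :=
    (Nat.bijective_iff_injective_and_card _).mpr
      ⟨hinj, le_antisymm (Nat.card_le_card_of_injective _ hinj) hcard⟩
  intro w hw
  obtain ⟨⟨x, y⟩, hxy⟩ := hbij.2 ⟨w, hw⟩
  exact ⟨x, x.2, y, y.2, congrArg Subtype.val hxy⟩

end Pair

end Cfsg.Agent.WeakTI.PairBasic
end

-- part: WeakTI/Pair2
section
set_option linter.all false
open scoped Cfsg.Agent.FastGrp

/-!
Pairs `A ~ B` of members of a class of weakly closed TI subgroups, second part: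

* dihedral lemmas;
* `Pair.odd_orderOf_mul`: `|ab|` is odd for `a ∈ A ∖ N_A(B)`, `b ∈ B ∖ N_B(A)`;
* `Pair.exists_conj`, `Pair.transitive`: `N_L(A)` is transitive on `A ∖ N_A(B)`, `L = ⟨A, B⟩`;
* members `C` with `C ∩ U ≠ 1`.
-/

set_option autoImplicit false

namespace Cfsg.Agent.WeakTI.PairBasic

open Subgroup Pointwise Basic

variable {G : Type*} [Group G] {A B C : Subgroup G}

section dihedral

theorem conj_pow_inv {x y : G} (hx : x * x = 1) (hy : y * y = 1) (j : ℕ) :
    x * (x * y) ^ j * x⁻¹ = ((x * y) ^ j)⁻¹ := by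
  have hxi : x⁻¹ = x := inv_eq_of_mul_eq_one_left hx
  have hyi : y⁻¹ = y := inv_eq_of_mul_eq_one_left hy
  rw [← inv_pow, ← conj_pow]
  congr 1
  rw [mul_inv_rev, hyi, hxi, ← mul_assoc, hx, one_mul]

theorem conj_pow_mul {x y : G} (hx : x * x = 1) (hy : y * y = 1) (j : ℕ) :
    (x * y) ^ j * x * ((x * y) ^ j)⁻¹ = (x * y) ^ (2 * j) * x := by
  have h1 := conj_pow_inv hx hy j
  have h2 : x * ((x * y) ^ j)⁻¹ = (x * y) ^ j * x := by
    have h3 := congrArg (fun t => t⁻¹) h1
    simp only [mul_inv_rev, inv_inv] at h3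
    have h4 : x * (((x * y) ^ j)⁻¹ * x⁻¹) = (x * y) ^ j := h3
    calc x * ((x * y) ^ j)⁻¹ = x * (((x * y) ^ j)⁻¹ * x⁻¹) * x := by simp [mul_assoc]
      _ = _ := by rw [h4]
  rw [mul_assoc, h2, ← mul_assoc, ← pow_add, two_mul]

/-- Two involutions with product of odd order are conjugate under a power of the product. -/
theorem exists_pow_conj_of_odd {x y : G} (hx : x * x = 1) (hy : y * y = 1)
    (h : Odd (orderOf (x * y))) : ∃ j : ℕ, (x * y) ^ j * x * ((x * y) ^ j)⁻¹ = y := by
  obtain ⟨k, hk⟩ := h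
  refine ⟨k, ?_⟩
  rw [conj_pow_mul hx hy]
  have h1 : (x * y) ^ (2 * k + 1) = 1 := by rw [← hk]; exact pow_orderOf_eq_one _
  rw [pow_succ] at h1
  have h2 : (x * y) ^ (2 * k) = (x * y)⁻¹ := eq_inv_of_mul_eq_one_left h1
  rw [h2, mul_inv_rev, inv_eq_of_mul_eq_one_left hx, inv_eq_of_mul_eq_one_left hy, mul_assoc, hx,
    mul_one]

/-- Two involutions whose product has even order: the central involution `z` of the dihedral
group. -/
theorem exists_central_of_even [Finite G] {x y : G} (hx : x * x = 1) (hy : y * y = 1)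
    (h : Even (orderOf (x * y))) :
    ∃ z ∈ zpowers (x * y), z ≠ 1 ∧ z * z = 1 ∧ x * z = z * x ∧ y * z = z * y ∧
      (∃ j : ℕ, x * z = (x * y) ^ j * x * ((x * y) ^ j)⁻¹ ∨
        x * z = (x * y) ^ j * y * ((x * y) ^ j)⁻¹) ∧
      ∃ j : ℕ, y * z = (x * y) ^ j * x * ((x * y) ^ j)⁻¹ ∨
        y * z = (x * y) ^ j * y * ((x * y) ^ j)⁻¹ := by
  have hxi : x⁻¹ = x := inv_eq_of_mul_eq_one_left hx
  obtain ⟨m, hm⟩ := h
  have hpos : 0 < orderOf (x * y) := orderOf_pos _
  have hm0 : 0 < m := by omega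
  have hr2 : (x * y) ^ (2 * m) = 1 := by
    rw [two_mul, ← hm]; exact pow_orderOf_eq_one _
  have hzz : (x * y) ^ m * (x * y) ^ m = 1 := by rw [← pow_add, ← two_mul, hr2]
  have hzi : ((x * y) ^ m)⁻¹ = (x * y) ^ m := inv_eq_of_mul_eq_one_left hzz
  have hz1 : (x * y) ^ m ≠ 1 := by
    intro h0
    have := orderOf_dvd_of_pow_eq_one h0
    have := Nat.le_of_dvd hm0 this
    omega
  have hcx : x * (x * y) ^ m = (x * y) ^ m * x := by
    have h1 := conj_pow_inv hx hy m
    rw [hzi] at h1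
    calc x * (x * y) ^ m = x * (x * y) ^ m * x⁻¹ * x := by simp [mul_assoc]
      _ = _ := by rw [h1]
  have hcr : (x * y) * (x * y) ^ m = (x * y) ^ m * (x * y) := by
    rw [← pow_succ', ← pow_succ]
  have hyx : y = x * (x * y) := by rw [← mul_assoc, hx, one_mul]
  have hcy : y * (x * y) ^ m = (x * y) ^ m * y := by
    have e1 : y * (x * y) ^ m = x * ((x * y) * (x * y) ^ m) := by
      rw [← mul_assoc x (x * y), ← hyx]
    rw [e1, hcr, ← mul_assoc, hcx, mul_assoc, ← hyx]
  -- conjugates of `y`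
  have hconjy : ∀ j : ℕ, (x * y) ^ (j + 1) * y * ((x * y) ^ (j + 1))⁻¹ =
      (x * y) ^ (2 * j + 1) * x := by
    intro j
    have e1 : (x * y) * y * (x * y)⁻¹ = (x * y) * x := by
      rw [mul_inv_rev, hxi, inv_eq_of_mul_eq_one_left hy, mul_assoc x y y, hy, mul_one]
      simp only [mul_assoc]
    have e2 : (x * y) ^ (j + 1) * y * ((x * y) ^ (j + 1))⁻¹ =
        (x * y) ^ j * ((x * y) * y * (x * y)⁻¹) * ((x * y) ^ j)⁻¹ := by
      rw [pow_succ, mul_inv_rev]
      simp only [mul_assoc]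
    rw [e2, e1]
    have e3 : (x * y) ^ j * (x * y * x) * ((x * y) ^ j)⁻¹ =
        (x * y) * ((x * y) ^ j * x * ((x * y) ^ j)⁻¹) := by
      have : (x * y) ^ j * (x * y) = (x * y) * (x * y) ^ j := by
        rw [← pow_succ', ← pow_succ]
      rw [← mul_assoc ((x * y) ^ j), this]
      simp only [mul_assoc]
    rw [e3, conj_pow_mul hx hy, ← mul_assoc, ← pow_succ']
  have hxz : x * (x * y) ^ m = (x * y) ^ m * x := hcx
  refine ⟨(x * y) ^ m, npow_mem_zpowers _ _, hz1, hzz, hcx, hcy, ?_, ?_⟩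
  · rw [hxz]
    rcases Nat.even_or_odd' m with ⟨k, hk | hk⟩
    · refine ⟨k, Or.inl ?_⟩
      rw [conj_pow_mul hx hy, ← hk]
    · refine ⟨k + 1, Or.inr ?_⟩
      rw [hconjy, ← hk]
  · -- `y z = x r z = r⁻¹ z x = r ^ (m - 1) x`
    have e1 : y * (x * y) ^ m = (x * y) ^ (m - 1) * x := by
      have h3 : (x * y) ^ m = (x * y) ^ (m - 1) * (x * y) := by
        rw [← pow_succ, Nat.sub_add_cancel hm0]
      rw [hcy, h3, mul_assoc, mul_assoc, hy, mul_one]
    rw [e1]
    rcases Nat.even_or_odd' (m - 1) with ⟨k, hk | hk⟩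
    · refine ⟨k, Or.inl ?_⟩
      rw [conj_pow_mul hx hy, ← hk]
    · refine ⟨k + 1, Or.inr ?_⟩
      rw [hconjy, ← hk]

end dihedral

namespace Pair

/-- `g ∈ L` maps `U` to `U` -/
theorem conj_mem_U (h : Pair A B) {g u : G} (hg : g ∈ A ⊔ B) (hu : u ∈ nrm A B ⊔ nrm B A) :
    g * u * g⁻¹ ∈ nrm A B ⊔ nrm B A :=
  conj_mem_of_mem_normalizer (h.sup_le_normalizer_sup hg) hu

/-- If `az` is `L`-conjugate to an element of `A ∪ B` and commutes with `a ∈ A ∖ N_A(B)`, then
`z ∈ A`. -/
theorem mem_of_conj [Finite G] (h : Pair A B) {a : G} (ha : a ∈ A) (ha' : a ∉ nrm A B) {g : G}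
    (hg : g ∈ A ⊔ B) {y z : G} (hy : y ∈ A ∨ y ∈ B) (hz : a * z = g * y * g⁻¹)
    (hc : a * z = z * a) : z ∈ A := by
  have key : a * z ∈ A := by
    -- a general member `D ∈ {A, B}` with a nontrivial element in `U`
    have aux : ∀ D : Subgroup G, Cj A D → y ∈ D → ∀ c0 ∈ D, c0 ∈ nrm A B ⊔ nrm B A → c0 ≠ 1 →
        a * z ∈ A := by
      intro D hD hyD c0 hc0D hc0U hc01
      by_contra hcon
      have hazD : a * z ∈ MulAut.conj g • D := by rw [hz]; exact conj_mem_cj hyD
      have hne : A ≠ MulAut.conj g • D := by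
        intro he
        rw [← he] at hazD
        exact hcon hazD
      have hCj : Cj A (MulAut.conj g • D) := hD.conj g
      have hwC : WTI (MulAut.conj g • D) := h.wa.of_cj hCj
      have haz1 : a * z ≠ 1 := by
        intro h0
        exact hcon (h0 ▸ A.one_mem)
      have hcomm : a * z * a = a * (a * z) := by
        rw [hc, ← mul_assoc, hc]
      have haC : a ∈ nrm A (MulAut.conj g • D) := mem_nrm_of_commute hwC hazD haz1 ha hcomm
      have hcU : g * c0 * g⁻¹ ∈ nrm A B ⊔ nrm B A := h.conj_mem_U hg hc0U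
      have hcC : g * c0 * g⁻¹ ∈ nrm (MulAut.conj g • D) A :=
        mem_nrm.mpr ⟨conj_mem_cj hc0D, h.sup_le_normalizer hcU⟩
      have hcomm2 := commute_nrm h.wa hCj hne haC hcC
      have hcA := h.mem_nrm_of_mem_sup_of_commute ha ha' hcU hcomm2
      have := h.wa.eq_one_of_mem hCj hne hcA.1 hcC.1
      exact hc01 (by simpa using this)
    rcases hy with hy | hy
    · obtain ⟨c0, hc0, hc01⟩ := exists_mem_ne_one h.nb
      exact aux A (Cj.refl A) hy c0 hc0.1 (Subgroup.mem_sup_left hc0) hc01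
    · obtain ⟨c0, hc0, hc01⟩ := exists_mem_ne_one h.symm.nb
      exact aux B h.cj hy c0 hc0.1 (Subgroup.mem_sup_right hc0) hc01
  have : z = a * (a * z) := by rw [← mul_assoc, h.wa.sq a ha, one_mul]
  rw [this]
  exact A.mul_mem ha key

/-- `|ab|` is odd for `a ∈ A ∖ N_A(B)`, `b ∈ B ∖ N_B(A)`. -/
theorem odd_orderOf_mul [Finite G] (h : Pair A B) {a b : G} (ha : a ∈ A) (ha' : a ∉ nrm A B)
    (hb : b ∈ B) (hb' : b ∉ nrm B A) : Odd (orderOf (a * b)) := by
  rw [← Nat.not_even_iff_odd]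
  intro heven
  have haa := h.wa.sq a ha
  have hbb := h.wb.sq b hb
  obtain ⟨z, -, hz1, -, hza, hzb, ⟨j, hj⟩, ⟨k, hk⟩⟩ := exists_central_of_even haa hbb heven
  have hL : ∀ j : ℕ, (a * b) ^ j ∈ A ⊔ B := fun j =>
    Subgroup.pow_mem _ ((A ⊔ B).mul_mem (Subgroup.mem_sup_left ha) (Subgroup.mem_sup_right hb)) j
  have h1 : z ∈ A := by
    rcases hj with hj | hj
    · exact h.mem_of_conj ha ha' (hL j) (Or.inl ha) hj hza
    · exact h.mem_of_conj ha ha' (hL j) (Or.inr hb) hj hza
  have h2 : z ∈ B := by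
    have hL' : ∀ j : ℕ, (a * b) ^ j ∈ B ⊔ A := fun j => by rw [sup_comm]; exact hL j
    rcases hk with hk | hk
    · exact h.symm.mem_of_conj hb hb' (hL' k) (Or.inr ha) hk hzb
    · exact h.symm.mem_of_conj hb hb' (hL' k) (Or.inl hb) hk hzb
  exact hz1 (h.wa.eq_one_of_mem h.cj h.ne h1 h2)

/-- Elements of `A ∖ N_A(B)` and `B ∖ N_B(A)` are conjugate in `L`. -/
theorem exists_conj [Finite G] (h : Pair A B) {a b : G} (ha : a ∈ A) (ha' : a ∉ nrm A B)
    (hb : b ∈ B) (hb' : b ∉ nrm B A) :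
    ∃ g ∈ zpowers (a * b), g * a * g⁻¹ = b ∧ g ∈ A ⊔ B ∧ MulAut.conj g • A = B := by
  obtain ⟨j, hj⟩ := exists_pow_conj_of_odd (h.wa.sq a ha) (h.wb.sq b hb)
    (h.odd_orderOf_mul ha ha' hb hb')
  have hgL : (a * b) ^ j ∈ A ⊔ B :=
    Subgroup.pow_mem _ ((A ⊔ B).mul_mem (Subgroup.mem_sup_left ha) (Subgroup.mem_sup_right hb)) j
  refine ⟨(a * b) ^ j, npow_mem_zpowers _ _, hj, hgL, ?_⟩
  have hb1 : b ≠ 1 := fun h0 => hb' (h0 ▸ Subgroup.one_mem _)
  have h2 : b ∈ MulAut.conj ((a * b) ^ j) • A := by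
    have := conj_mem_cj (g := (a * b) ^ j) ha
    rwa [hj] at this
  exact (h.wb.eq_of_mem (h.cj.symm.conj _) hb h2 hb1).symm

/-- `N_L(A)` is transitive on `A ∖ N_A(B)`. -/
theorem transitive [Finite G] (h : Pair A B) {a a' : G} (ha : a ∈ A) (ha1 : a ∉ nrm A B)
    (ha' : a' ∈ A) (ha1' : a' ∉ nrm A B) :
    ∃ n ∈ A ⊔ B, n ∈ normalizer (A : Set G) ∧ n * a * n⁻¹ = a' := by
  obtain ⟨b, hb, hb'⟩ := h.symm.exists_not_mem
  obtain ⟨g, -, hg, hgL, hgA⟩ := h.exists_conj ha ha1 hb hb'
  obtain ⟨g', -, hg', hgL', hgA'⟩ := h.exists_conj ha' ha1' hb hb'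
  refine ⟨g'⁻¹ * g, (A ⊔ B).mul_mem ((A ⊔ B).inv_mem hgL') hgL, ?_, ?_⟩
  · rw [mem_normalizer_iff_cj, cj_mul, hgA, ← hgA', ← cj_mul, inv_mul_cancel, cj_one]
  · calc g'⁻¹ * g * a * (g'⁻¹ * g)⁻¹ = g'⁻¹ * (g * a * g⁻¹) * g' := by group
      _ = g'⁻¹ * (g' * a' * g'⁻¹) * g' := by rw [hg, hg']
      _ = a' := by group

/-- `U` centralises itself, so it normalises every member meeting it nontrivially. -/
theorem sup_le_normalizer_of_inter (h : Pair A B) (hC : Cj A C) {u : G}
    (huU : u ∈ nrm A B ⊔ nrm B A) (huC : u ∈ C) (hu1 : u ≠ 1) :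
    nrm A B ⊔ nrm B A ≤ normalizer (C : Set G) := fun v hv =>
  (h.wa.of_cj hC).mem_normalizer_of_commute huC hu1 (h.sup_comm_sq.1 v hv u huU)

/-- A member `C ≠ A` meeting `U` nontrivially is adjacent to `A`, and `N_A(C) = N_A(B)`. -/
theorem of_inter (h : Pair A B) (hC : Cj A C) (hne : A ≠ C) {u : G}
    (huU : u ∈ nrm A B ⊔ nrm B A) (huC : u ∈ C) (hu1 : u ≠ 1) :
    Pair A C ∧ nrm A C = nrm A B := by
  have hle : nrm A B ≤ nrm A C := fun x hx =>
    mem_nrm.mpr ⟨hx.1, h.sup_le_normalizer_of_inter hC huU huC hu1 (Subgroup.mem_sup_left hx)⟩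
  have hp : Pair A C := ⟨h.wa, hC, hne, fun h0 => h.nb (le_bot_iff.mp (h0 ▸ hle))⟩
  refine ⟨hp, le_antisymm ?_ hle⟩
  intro x hx
  have huCA : u ∈ nrm C A := mem_nrm.mpr ⟨huC, h.sup_le_normalizer huU⟩
  obtain ⟨a0, ha0, b0, hb0, rfl⟩ := h.mem_sup_iff.mp huU
  have hb01 : b0 ≠ 1 := by
    rintro rfl
    rw [mul_one] at huC hu1
    exact hu1 (h.wa.eq_one_of_mem hC hne ha0.1 huC)
  have h1 : x * (a0 * b0) = a0 * b0 * x := hp.commute hx huCA
  have h2 : x * a0 = a0 * x := h.wa.comm _ hx.1 _ ha0.1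
  have h3 : x * b0 = b0 * x := by
    have : a0 * (x * b0) = a0 * (b0 * x) := by
      rw [← mul_assoc, ← h2, mul_assoc, h1, mul_assoc]
    exact mul_left_cancel this
  exact (h.mem_nrm_iff_commute hx.1 hb0 hb01).mpr h3

/-- The members `C = A^g`, `g ∈ L`, different from `A`. -/
theorem of_conj (h : Pair A B) {g : G} (hg : g ∈ A ⊔ B) (hne : A ≠ MulAut.conj g • A) :
    Pair A (MulAut.conj g • A) ∧ nrm A (MulAut.conj g • A) = nrm A B := by
  obtain ⟨c0, hc0, hc01⟩ := exists_mem_ne_one h.nb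
  refine h.of_inter ⟨g, rfl⟩ hne (u := g * c0 * g⁻¹)
    (h.conj_mem_U hg (Subgroup.mem_sup_left hc0)) (conj_mem_cj hc0.1) ?_
  intro h0
  exact hc01 (by simpa using h0)

/-- The members `C` contained in `L`, different from `A`. -/
theorem of_le [Finite G] (h : Pair A B) (hC : Cj A C) (hle : C ≤ A ⊔ B) (hne : A ≠ C) :
    Pair A C ∧ nrm A C = nrm A B ∧ nrm C A ≤ nrm A B ⊔ nrm B A := by
  obtain ⟨g, hg, rfl⟩ := h.wa.exists_conj_of_le hC le_sup_left hle
  obtain ⟨h1, h2⟩ := h.of_conj hg hne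
  refine ⟨h1, h2, ?_⟩
  -- `C ∩ U = g (N_A(B)) g⁻¹` has the order of `N_C(A)`
  have hsub : MulAut.conj g • nrm A B ≤ nrm (MulAut.conj g • A) A := by
    intro x hx
    rw [mem_cj] at hx
    have hx' : x ∈ nrm A B ⊔ nrm B A := by
      have := h.conj_mem_U hg (Subgroup.mem_sup_left hx)
      simpa [mul_assoc] using this
    exact mem_nrm.mpr ⟨mem_cj.mpr hx.1, h.sup_le_normalizer hx'⟩
  have hcard : Nat.card (nrm (MulAut.conj g • A) A) ≤ Nat.card (MulAut.conj g • nrm A B : Subgroup G) := by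
    rw [h1.card_nrm_eq, h2]
    exact le_of_eq (Nat.card_congr (Subgroup.equivSMul (MulAut.conj g) (nrm A B)).toEquiv)
  have heq : MulAut.conj g • nrm A B = nrm (MulAut.conj g • A) A :=
    Subgroup.eq_of_le_of_card_ge hsub hcard
  rw [← heq]
  intro x hx
  rw [mem_cj] at hx
  have := h.conj_mem_U hg (Subgroup.mem_sup_left hx)
  simpa [mul_assoc] using this

end Pair

end Cfsg.Agent.WeakTI.PairBasic
end

-- part: WeakTI/PairOdd
section
set_option linter.all false
open scoped Cfsg.Agent.FastGrp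

/-!
Pairs of members of a class of weakly closed TI subgroups: odd products, transitivity of `N_G(A)`,
the case where all axes `N_A(B)` coincide.
-/

set_option autoImplicit false

namespace Cfsg.Agent.WeakTI.PairOdd

open Subgroup Pointwise Basic PairBasic

variable {G : Type*} [Group G] {A B C : Subgroup G}

/-- If `C` meets `U = N_A(B) N_B(A)` nontrivially then `N_A(C) = N_A(B)`. -/
theorem pair_of_mem_sup (h : Pair A B) (hC : Cj A C) (hne : A ≠ C) {u : G}
    (hu : u ∈ nrm A B ⊔ nrm B A) (huC : u ∈ C) (hu1 : u ≠ 1) :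
    Pair A C ∧ nrm A C = nrm A B := by
  obtain ⟨a, ha, b, hb, rfl⟩ := h.mem_sup_iff.mp hu
  have hCw : WTI C := h.wa.of_cj hC
  have hb1 : b ≠ 1 := by
    rintro rfl
    rw [mul_one] at huC hu1
    exact hne (h.wa.eq_of_mem hC ha.1 huC hu1)
  have key : ∀ x ∈ A, (x * (a * b) = a * b * x ↔ x * b = b * x) := by
    intro x hx
    have h1 := h.wa.comm _ hx _ ha.1
    constructor
    · intro h2
      have : a * (x * b) = a * (b * x) := by
        rw [← mul_assoc, ← h1, mul_assoc, h2]; simp [mul_assoc]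
      exact mul_left_cancel this
    · intro h2
      calc x * (a * b) = (x * a) * b := by simp [mul_assoc]
        _ = a * (x * b) := by rw [h1]; simp [mul_assoc]
        _ = a * b * x := by rw [h2]; simp [mul_assoc]
  obtain ⟨a0, ha0, ha01⟩ := exists_mem_ne_one h.nb
  have hnb : nrm A C ≠ ⊥ := by
    intro h0
    have h1 : a0 ∈ nrm A C :=
      mem_nrm_of_commute hCw huC hu1 ha0.1 ((key a0 ha0.1).mpr (h.commute ha0 hb)).symm
    rw [h0] at h1
    exact ha01 (Subgroup.mem_bot.mp h1)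
  have hp : Pair A C := ⟨h.wa, hC, hne, hnb⟩
  refine ⟨hp, ?_⟩
  have huCA : a * b ∈ nrm C A := ⟨huC, h.sup_le_normalizer hu⟩
  ext x
  constructor
  · intro hx
    have h1 := (hp.mem_nrm_iff_commute hx.1 huCA hu1).mp hx
    exact (h.mem_nrm_iff_commute hx.1 hb hb1).mpr ((key x hx.1).mp h1)
  · intro hx
    have h1 := (h.mem_nrm_iff_commute hx.1 hb hb1).mp hx
    exact (hp.mem_nrm_iff_commute hx.1 huCA hu1).mpr ((key x hx.1).mpr h1)

/-- If `C` meets `U` nontrivially then `N_C(A)` centralises `U`. -/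
theorem commute_of_mem_sup (h : Pair A B) (hC : Cj A C) (hne : A ≠ C) {u : G}
    (hu : u ∈ nrm A B ⊔ nrm B A) (huC : u ∈ C) (hu1 : u ≠ 1) {c v : G} (hc : c ∈ nrm C A)
    (hv : v ∈ nrm A B ⊔ nrm B A) : c * v = v * c := by
  obtain ⟨hp, heq⟩ := pair_of_mem_sup h hC hne hu huC hu1
  have hCw : WTI C := h.wa.of_cj hC
  have hA : ∀ x ∈ nrm A B, c * x = x * c := fun x hx => by
    rw [← heq] at hx
    exact (hp.commute hx hc).symm
  -- c commutes with u = a b and with a hence with b
  obtain ⟨a, ha, b, hb, rfl⟩ := h.mem_sup_iff.mp hu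
  have hb1 : b ≠ 1 := by
    rintro rfl
    rw [mul_one] at huC hu1
    exact hne (h.wa.eq_of_mem hC ha.1 huC hu1)
  have hcb : c * b = b * c := by
    have h1 := hCw.comm _ hc.1 _ huC
    have h2 := hA a ha
    have : a * (c * b) = a * (b * c) := by
      rw [← mul_assoc, ← h2, mul_assoc, h1]; simp [mul_assoc]
    exact mul_left_cancel this
  -- c normalises B, and centralises N_A(B); so it centralises N_B(A)
  have hcN : c ∈ normalizer (B : Set G) := h.wb.mem_normalizer_of_commute hb.1 hb1 hcb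
  have hB : ∀ y ∈ nrm B A, c * y = y * c := by
    by_cases hCB : C = B
    · subst hCB
      intro y hy
      exact hCw.comm _ hc.1 _ hy.1
    · have hBC : Cj B C := h.cj.symm.trans hC
      obtain ⟨hp', heq'⟩ := pair_of_mem_sup h.symm hBC (Ne.symm hCB)
        (by rw [sup_comm]; exact hu) huC hu1
      intro y hy
      rw [← heq'] at hy
      exact (hp'.commute hy ⟨hc.1, hcN⟩).symm
  obtain ⟨x, hx, y, hy, rfl⟩ := h.mem_sup_iff.mp hv
  calc c * (x * y) = (c * x) * y := by simp [mul_assoc]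
    _ = x * (c * y) := by rw [hA x hx]; simp [mul_assoc]
    _ = x * y * c := by rw [hB y hy]; simp [mul_assoc]

/-- The conjugates of `A` under `⟨A, B⟩` have the same axis on `A` as `B`. -/
theorem pair_of_mem_sup_conj (h : Pair A B) {g : G} (hg : g ∈ A ⊔ B)
    (hne : A ≠ MulAut.conj g • A) :
    Pair A (MulAut.conj g • A) ∧ nrm A (MulAut.conj g • A) = nrm A B := by
  obtain ⟨a0, ha0, ha01⟩ := exists_mem_ne_one h.nb
  refine pair_of_mem_sup h ⟨g, rfl⟩ hne (u := g * a0 * g⁻¹) ?_ (conj_mem_cj ha0.1) ?_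
  · exact conj_mem_of_mem_normalizer (h.sup_le_normalizer_sup hg) (Subgroup.mem_sup_left ha0)
  · intro h1
    exact ha01 (by simpa only [_root_.conj_eq_one_iff] using h1)

theorem pair_of_cj_le (h : Pair A B) [Finite G] (hC : Cj A C) (hCle : C ≤ A ⊔ B) (hne : A ≠ C) :
    Pair A C ∧ nrm A C = nrm A B := by
  obtain ⟨g, hg, rfl⟩ := h.wa.exists_conj_of_le hC (le_sup_left : A ≤ A ⊔ B) hCle
  exact pair_of_mem_sup_conj h hg hne

/-! ### odd products -/

/-- dihedral lemma: if `n = |xy|` is even, `z = (xy)^(n/2)`, then `x z` is conjugate to `x` or `y`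
by a power of `x y`. -/
theorem exists_conj_of_even {x y : G} (hx : x * x = 1) (hy : y * y = 1) (m : ℕ) :
    ∃ g ∈ Subgroup.zpowers (x * y),
      (x * (x * y) ^ m = g * x * g⁻¹ ∨ x * (x * y) ^ m = g * y * g⁻¹) := by
  have hxi : x⁻¹ = x := inv_eq_of_mul_eq_one_left hx
  have hyi : y⁻¹ = y := inv_eq_of_mul_eq_one_left hy
  have hinv : ∀ k : ℕ, x * (x * y) ^ k * x = ((x * y) ^ k)⁻¹ := by
    intro k
    induction k with
    | zero => simp [hx]
    | succ k ih =>
      rw [pow_succ, mul_inv_rev, mul_inv_rev, hxi, hyi, ← ih]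
      calc x * ((x * y) ^ k * (x * y)) * x = x * (x * y) ^ k * (x * y * x) := by simp [mul_assoc]
        _ = (x * (x * y) ^ k * x) * (y * x) := by simp [mul_assoc]
        _ = y * x * (x * (x * y) ^ k * x) := by
            rw [ih]
            have : y * x = (x * y)⁻¹ := by rw [mul_inv_rev, hxi, hyi]
            rw [this, ← mul_inv_rev, ← mul_inv_rev, ← pow_succ, ← pow_succ']
  rcases Nat.even_or_odd m with ⟨k, hk⟩ | ⟨k, hk⟩
  · refine ⟨((x * y) ^ k)⁻¹, Subgroup.inv_mem _ (Subgroup.npow_mem_zpowers _ _), Or.inl ?_⟩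
    rw [inv_inv, hk, pow_add]
    have h1 := hinv k
    calc x * ((x * y) ^ k * (x * y) ^ k) = (x * (x * y) ^ k * x) * (x * (x * y) ^ k) := by
          rw [show (x * (x * y) ^ k * x) * (x * (x * y) ^ k) = x * (x * y) ^ k * (x * x) * (x * y) ^ k
            by simp [mul_assoc], hx]; simp [mul_assoc]
      _ = ((x * y) ^ k)⁻¹ * x * (x * y) ^ k := by rw [h1]; simp [mul_assoc]
  · refine ⟨((x * y) ^ k)⁻¹, Subgroup.inv_mem _ (Subgroup.npow_mem_zpowers _ _), Or.inr ?_⟩
    rw [inv_inv, hk]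
    have h1 := hinv k
    have h2 : (x * y) ^ (2 * k + 1) = (x * y) ^ k * (x * y) * (x * y) ^ k := by
      rw [← pow_succ, ← pow_add]
      congr 1
      omega
    rw [h2]
    calc x * ((x * y) ^ k * (x * y) * (x * y) ^ k) = (x * (x * y) ^ k * x) * y * (x * y) ^ k := by
          simp [mul_assoc]
      _ = ((x * y) ^ k)⁻¹ * y * (x * y) ^ k := by rw [h1]

/-- involutions `x`, `y` with `|xy|` odd are conjugate in `⟨xy⟩`, and there is an involution in
`⟨x, y⟩` swapping them -/
theorem exists_conj_of_odd {x y : G} (hx : x * x = 1) (hy : y * y = 1)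
    (ho : Odd (orderOf (x * y))) : ∃ g ∈ Subgroup.zpowers (x * y), g * x * g⁻¹ = y := by
  obtain ⟨k, hk⟩ := ho
  have hxi : x⁻¹ = x := inv_eq_of_mul_eq_one_left hx
  have hyi : y⁻¹ = y := inv_eq_of_mul_eq_one_left hy
  obtain ⟨g, hg, h⟩ := exists_conj_of_even hx hy (2 * k + 1)
  have h1 : (x * y) ^ (2 * k + 1) = 1 := by rw [← hk]; exact pow_orderOf_eq_one _
  have hinv : ∀ k : ℕ, x * (x * y) ^ k * x = ((x * y) ^ k)⁻¹ := by
    intro k
    induction k with
    | zero => simp [hx]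
    | succ k ih =>
      rw [pow_succ, mul_inv_rev, mul_inv_rev, hxi, hyi, ← ih]
      calc x * ((x * y) ^ k * (x * y)) * x = x * (x * y) ^ k * (x * y * x) := by simp [mul_assoc]
        _ = (x * (x * y) ^ k * x) * (y * x) := by
            rw [show (x * (x * y) ^ k * x) * (y * x) = x * (x * y) ^ k * (x * y * x) by
              simp [mul_assoc]]
        _ = y * x * (x * (x * y) ^ k * x) := by
            rw [ih]
            have : y * x = (x * y)⁻¹ := by rw [mul_inv_rev, hxi, hyi]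
            rw [this, ← mul_inv_rev, ← mul_inv_rev, ← pow_succ, ← pow_succ']
  refine ⟨(x * y) ^ k, Subgroup.npow_mem_zpowers _ _, ?_⟩
  have h2 := hinv k
  have h3 : x * ((x * y) ^ k)⁻¹ = (x * y) ^ k * x := by
    rw [← h2]
    calc x * (x * (x * y) ^ k * x) = (x * x) * (x * y) ^ k * x := by simp [mul_assoc]
      _ = _ := by rw [hx, one_mul]
  rw [mul_assoc, h3, ← mul_assoc, ← pow_add]
  have h4 : (x * y) ^ (k + k) * (x * y) = 1 := by
    rw [← pow_succ, ← h1]; congr 1; omega
  have h5 : (x * y) ^ (k + k) = y * x := by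
    rw [mul_eq_one_iff_eq_inv.mp h4, mul_inv_rev, hxi, hyi]
  rw [h5, mul_assoc, hx, mul_one]

/-- the general odd-product lemma -/
theorem odd_of_forall [Finite G] {x y : G} (hx : x * x = 1) (hy : y * y = 1)
    (hAB : ∀ z, z ∈ A → z ∈ B → z = 1) (hxA : x ∈ A) (hyB : y ∈ B)
    (h1 : ∀ g ∈ Subgroup.zpowers (x * y), ∀ w : G, (w = g * x * g⁻¹ ∨ w = g * y * g⁻¹) →
      w * x = x * w → w ∈ A)
    (h2 : ∀ g ∈ Subgroup.zpowers (x * y), ∀ w : G, (w = g * x * g⁻¹ ∨ w = g * y * g⁻¹) →
      w * y = y * w → w ∈ B) : Odd (orderOf (x * y)) := by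
  by_contra hodd
  rw [Nat.not_odd_iff_even] at hodd
  obtain ⟨m, hm⟩ := hodd
  have hxi : x⁻¹ = x := inv_eq_of_mul_eq_one_left hx
  have hyi : y⁻¹ = y := inv_eq_of_mul_eq_one_left hy
  have hpos : 0 < orderOf (x * y) := orderOf_pos _
  set z := (x * y) ^ m with hz
  have hz1 : z ≠ 1 := by
    intro h0
    have := orderOf_dvd_of_pow_eq_one h0
    have := Nat.le_of_dvd (by omega) this
    omega
  have hzz : z * z = 1 := by
    rw [hz, ← pow_add, ← hm]; exact pow_orderOf_eq_one _
  have hzi : z⁻¹ = z := inv_eq_of_mul_eq_one_left hzz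
  -- x inverts z = z⁻¹, so commutes with it
  have hinv : ∀ k : ℕ, x * (x * y) ^ k * x = ((x * y) ^ k)⁻¹ := by
    intro k
    induction k with
    | zero => simp [hx]
    | succ k ih =>
      rw [pow_succ, mul_inv_rev, mul_inv_rev, hxi, hyi, ← ih]
      calc x * ((x * y) ^ k * (x * y)) * x = x * (x * y) ^ k * (x * y * x) := by simp [mul_assoc]
        _ = (x * (x * y) ^ k * x) * (y * x) := by
            rw [show (x * (x * y) ^ k * x) * (y * x) = x * (x * y) ^ k * (x * y * x) by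
              simp [mul_assoc]]
        _ = y * x * (x * (x * y) ^ k * x) := by
            rw [ih]
            have : y * x = (x * y)⁻¹ := by rw [mul_inv_rev, hxi, hyi]
            rw [this, ← mul_inv_rev, ← mul_inv_rev, ← pow_succ, ← pow_succ']
  have hxz : x * z = z * x := by
    have := hinv m
    rw [← hz, hzi] at this
    calc x * z = (x * z * x) * x := by rw [mul_assoc, mul_assoc, hx, mul_one]
      _ = z * x := by rw [this]
  have hxyz : (x * y) * z = z * (x * y) := by rw [hz, ← pow_succ, ← pow_succ']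
  have hyz : y * z = z * y := by
    have : x * (y * z) = x * (z * y) := by
      rw [← mul_assoc, hxyz, ← mul_assoc, ← mul_assoc, hxz]
    exact mul_left_cancel this
  obtain ⟨g, hg, hc⟩ := exists_conj_of_even hx hy m
  rw [← hz] at hc
  have hzA : z ∈ A := by
    have := h1 g hg (x * z) hc (by rw [mul_assoc, ← hxz])
    have h3 := A.mul_mem hxA this
    rwa [← mul_assoc, hx, one_mul] at h3
  -- y z = y (x y)^m
  have hzB : z ∈ B := by
    obtain ⟨g', hg', hc'⟩ := exists_conj_of_even hy hx m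
    have hyx : y * x = (x * y)⁻¹ := by rw [mul_inv_rev, hxi, hyi]
    have he : (y * x) ^ m = z := by rw [hyx, inv_pow, ← hz, hzi]
    rw [he] at hc'
    have hg'' : g' ∈ Subgroup.zpowers (x * y) := by
      rw [hyx, Subgroup.zpowers_inv] at hg'
      exact hg'
    have := h2 g' hg'' (y * z) hc'.symm (by rw [mul_assoc, ← hyz])
    have h3 := B.mul_mem hyB this
    rwa [← mul_assoc, hy, one_mul] at h3
  exact hz1 (hAB z hzA hzB)

/-- `|xy|` is odd for `x ∈ A ∖ N_A(B)`, `y ∈ B ∖ N_B(A)` (`A ~ B`). -/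
theorem odd_of_pair [Finite G] (h : Pair A B) {x y : G} (hx : x ∈ A) (hx' : x ∉ nrm A B)
    (hy : y ∈ B) (hy' : y ∉ nrm B A) : Odd (orderOf (x * y)) := by
  have hx1 : x ≠ 1 := by rintro rfl; exact hx' (Subgroup.one_mem _)
  have hy1 : y ≠ 1 := by rintro rfl; exact hy' (Subgroup.one_mem _)
  have hLx : x ∈ A ⊔ B := Subgroup.mem_sup_left hx
  have hLy : y ∈ A ⊔ B := Subgroup.mem_sup_right hy
  have hL : ∀ g ∈ Subgroup.zpowers (x * y), g ∈ A ⊔ B := fun g hg =>
    (Subgroup.zpowers_le.mpr (Subgroup.mul_mem _ hLx hLy)) hg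
  -- every conjugate `w` lies in a member of `⟨A, B⟩`
  have hmem : ∀ g ∈ Subgroup.zpowers (x * y), ∀ w : G, (w = g * x * g⁻¹ ∨ w = g * y * g⁻¹) →
      w ≠ 1 ∧ ∃ C, Cj A C ∧ C ≤ A ⊔ B ∧ w ∈ C := by
    intro g hg w hw
    have hgL := hL g hg
    have hle : ∀ D : Subgroup G, D ≤ A ⊔ B → MulAut.conj g • D ≤ A ⊔ B := by
      intro D hD v hv
      rw [mem_cj] at hv
      have := (A ⊔ B).mul_mem ((A ⊔ B).mul_mem hgL (hD hv)) ((A ⊔ B).inv_mem hgL)
      simpa only [mul_assoc, _root_.mul_inv_cancel_left, _root_.mul_inv_cancel, _root_.mul_one] using this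
    rcases hw with rfl | rfl
    · exact ⟨fun h0 => hx1 (by simpa only [_root_.conj_eq_one_iff] using h0), _, ⟨g, rfl⟩, hle A le_sup_left, conj_mem_cj hx⟩
    · exact ⟨fun h0 => hy1 (by simpa only [_root_.conj_eq_one_iff] using h0), _, h.cj.conj g, hle B le_sup_right, conj_mem_cj hy⟩
  refine odd_of_forall (A := A) (B := B) (h.wa.sq x hx) (h.wb.sq y hy)
    (fun z h1 h2 => h.wa.eq_one_of_mem h.cj h.ne h1 h2) hx hy ?_ ?_
  · intro g hg w hw hc
    obtain ⟨hw1, C, hC, hCL, hwC⟩ := hmem g hg w hw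
    by_cases hAC : A = C
    · rw [hAC]; exact hwC
    · exfalso
      obtain ⟨-, he⟩ := pair_of_cj_le h hC hCL hAC
      apply hx'
      rw [← he]
      exact mem_nrm_of_commute (h.wa.of_cj hC) hwC hw1 hx hc
  · intro g hg w hw hc
    obtain ⟨hw1, C, hC, hCL, hwC⟩ := hmem g hg w hw
    by_cases hBC : B = C
    · rw [hBC]; exact hwC
    · exfalso
      obtain ⟨-, he⟩ := pair_of_cj_le h.symm (h.cj.symm.trans hC) (by rwa [sup_comm]) hBC
      apply hy'
      rw [← he]
      exact mem_nrm_of_commute (h.wa.of_cj hC) hwC hw1 hy hc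

/-- `N_{⟨A,B⟩}(A)` is transitive on `A ∖ N_A(B)`. -/
theorem exists_mem_sup_conj [Finite G] (h : Pair A B) {x x' : G} (hx : x ∈ A) (hx1 : x ∉ nrm A B)
    (hx' : x' ∈ A) (hx1' : x' ∉ nrm A B) :
    ∃ g ∈ A ⊔ B, g ∈ normalizer (A : Set G) ∧ g * x * g⁻¹ = x' := by
  obtain ⟨y, hy, hy1⟩ := h.symm.exists_not_mem
  have hxe : x ≠ 1 := by rintro rfl; exact hx1 (Subgroup.one_mem _)
  have hL : ∀ u ∈ A, ∀ g ∈ Subgroup.zpowers (u * y), g ∈ A ⊔ B := fun u hu g hg =>
    (Subgroup.zpowers_le.mpr (Subgroup.mul_mem _ (Subgroup.mem_sup_left hu)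
      (Subgroup.mem_sup_right hy))) hg
  obtain ⟨g, hg, hgx⟩ := exists_conj_of_odd (h.wa.sq x hx) (h.wb.sq y hy)
    (odd_of_pair h hx hx1 hy hy1)
  obtain ⟨k, hk, hkx⟩ := exists_conj_of_odd (h.wa.sq x' hx') (h.wb.sq y hy)
    (odd_of_pair h hx' hx1' hy hy1)
  have he : (k⁻¹ * g) * x * (k⁻¹ * g)⁻¹ = x' := by
    calc (k⁻¹ * g) * x * (k⁻¹ * g)⁻¹ = k⁻¹ * (g * x * g⁻¹) * k := by simp only [mul_assoc, _root_.mul_inv_rev, _root_.inv_inv]
      _ = k⁻¹ * (k * x' * k⁻¹) * k := by rw [hgx, hkx]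
      _ = x' := by simp [mul_assoc]
  refine ⟨k⁻¹ * g, Subgroup.mul_mem _ (Subgroup.inv_mem _ (hL x' hx' k hk)) (hL x hx g hg), ?_, he⟩
  exact h.wa.mem_normalizer_of_conj_mem hx hxe (by rw [he]; exact hx')

/-- `N_G(A)` is transitive on the elements of `A` lying outside some axis. -/
theorem exists_normalizer_conj [Finite G] {x x' : G} (hx : x ∈ A)
    (hx' : x' ∈ A) (hB : Pair A B) (hxB : x ∉ nrm A B) (hC : Pair A C) (hxC : x' ∉ nrm A C) :
    ∃ g ∈ normalizer (A : Set G), g * x * g⁻¹ = x' := by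
  by_cases h1 : x ∈ nrm A C
  · by_cases h2 : x' ∈ nrm A B
    · have h3 : x * x' ∉ nrm A B := fun h => hxB (by
        have := Subgroup.mul_mem _ h (Subgroup.inv_mem _ h2)
        simpa using this)
      have h4 : x * x' ∉ nrm A C := fun h => hxC (by
        have := Subgroup.mul_mem _ (Subgroup.inv_mem _ h1) h
        simpa using this)
      obtain ⟨g, -, hg, he⟩ := exists_mem_sup_conj hB hx hxB (A.mul_mem hx hx') h3
      obtain ⟨k, -, hk, he'⟩ := exists_mem_sup_conj hC (A.mul_mem hx hx') h4 hx' hxC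
      refine ⟨k * g, Subgroup.mul_mem _ hk hg, ?_⟩
      calc k * g * x * (k * g)⁻¹ = k * (g * x * g⁻¹) * k⁻¹ := by simp only [mul_assoc, _root_.mul_inv_rev]
        _ = x' := by rw [he, he']
    · obtain ⟨g, -, hg, he⟩ := exists_mem_sup_conj hB hx hxB hx' h2
      exact ⟨g, hg, he⟩
  · obtain ⟨g, -, hg, he⟩ := exists_mem_sup_conj hC hx h1 hx' hxC
    exact ⟨g, hg, he⟩

theorem nrm_cj (A B : Subgroup G) (g : G) :
    nrm (MulAut.conj g • A) (MulAut.conj g • B) = MulAut.conj g • nrm A B := by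
  ext x
  rw [mem_nrm, mem_cj, mem_cj, mem_nrm, mem_normalizer_iff_cj, mem_normalizer_iff_cj]
  refine and_congr_right fun _ => ?_
  constructor
  · intro h
    have := congrArg (fun S => MulAut.conj g⁻¹ • S) h
    simp only [← cj_mul] at this
    simpa only [mul_assoc, cj_one, _root_.map_mul, _root_.map_inv, _root_.inv_mul_cancel, _root_.map_one, _root_.one_smul] using this
  · intro h
    have h1 : MulAut.conj g • MulAut.conj (g⁻¹ * x * g) • B = MulAut.conj g • B := by rw [h]
    rw [← cj_mul, show g * (g⁻¹ * x * g) = x * g by simp [mul_assoc], cj_mul] at h1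
    exact h1

/-! ### all axes equal -/

/-- all axes on `A` are equal to `A0` -/
structure OneAxis (A A0 : Subgroup G) : Prop where
  wa : WTI A
  ex : ∃ B, Pair A B
  eq : ∀ B, Pair A B → nrm A B = A0

namespace OneAxis

variable {A0 C0 : Subgroup G}

theorem cj (h : OneAxis A A0) (g : G) : OneAxis (MulAut.conj g • A) (MulAut.conj g • A0) where
  wa := h.wa.cj g
  ex := by
    obtain ⟨B, hB⟩ := h.ex
    exact ⟨_, hB.conj g⟩
  eq := by
    intro B hB
    have h1 := hB.conj g⁻¹
    rw [← cj_mul, inv_mul_cancel, cj_one] at h1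
    rw [← h.eq _ h1, ← nrm_cj, ← cj_mul, mul_inv_cancel, cj_one]

theorem le (h : OneAxis A A0) : A0 ≤ A := by
  obtain ⟨B, hB⟩ := h.ex
  rw [← h.eq B hB]; exact nrm_le

theorem ne_bot (h : OneAxis A A0) : A0 ≠ ⊥ := by
  obtain ⟨B, hB⟩ := h.ex
  rw [← h.eq B hB]; exact hB.nb

theorem exists_not_mem (h : OneAxis A A0) : ∃ x ∈ A, x ∉ A0 := by
  obtain ⟨B, hB⟩ := h.ex
  rw [← h.eq B hB]; exact hB.exists_not_mem

theorem unique (h : OneAxis A A0) (h' : OneAxis A C0) : A0 = C0 := by
  obtain ⟨B, hB⟩ := h.ex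
  rw [← h.eq B hB, h'.eq B hB]

theorem of_cj (h : OneAxis A A0) (hC : Cj A C) : ∃ C0, OneAxis C C0 := by
  obtain ⟨g, rfl⟩ := hC
  exact ⟨_, h.cj g⟩

/-- commuting elements outside the axes -/
theorem eq_of_commute (h : OneAxis A A0) (hC : Cj A C) {x w : G} (hx : x ∈ A) (hx' : x ∉ A0)
    (hw : w ∈ C) (hw1 : w ≠ 1) (hc : w * x = x * w) : A = C := by
  by_contra hne
  have h1 : x ∈ nrm A C := mem_nrm_of_commute (h.wa.of_cj hC) hw hw1 hx hc
  have h2 : nrm A C ≠ ⊥ := by
    intro h0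
    rw [h0, Subgroup.mem_bot] at h1
    rw [h1] at hx'
    exact hx' (Subgroup.one_mem _)
  rw [h.eq C ⟨h.wa, hC, hne, h2⟩] at h1
  exact hx' h1

/-- odd products -/
theorem odd [Finite G] (h : OneAxis A A0) (h' : OneAxis C C0) (hC : Cj A C) (hne : A ≠ C)
    {x y : G} (hx : x ∈ A) (hx' : x ∉ A0) (hy : y ∈ C) (hy' : y ∉ C0) :
    Odd (orderOf (x * y)) := by
  have hx1 : x ≠ 1 := by rintro rfl; exact hx' (Subgroup.one_mem _)
  have hy1 : y ≠ 1 := by rintro rfl; exact hy' (Subgroup.one_mem _)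
  have hmem : ∀ g w : G, (w = g * x * g⁻¹ ∨ w = g * y * g⁻¹) →
      w ≠ 1 ∧ ∃ D, Cj A D ∧ w ∈ D := by
    intro g w hw
    rcases hw with rfl | rfl
    · exact ⟨fun h0 => hx1 (by simpa only [_root_.conj_eq_one_iff] using h0), _, ⟨g, rfl⟩, conj_mem_cj hx⟩
    · exact ⟨fun h0 => hy1 (by simpa only [_root_.conj_eq_one_iff] using h0), _, hC.conj g, conj_mem_cj hy⟩
  refine odd_of_forall (A := A) (B := C) (h.wa.sq x hx) (h'.wa.sq y hy)
    (fun z h1 h2 => h.wa.eq_one_of_mem hC hne h1 h2) hx hy ?_ ?_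
  · intro g hg w hw hc
    obtain ⟨hw1, D, hD, hwD⟩ := hmem g w hw
    rw [h.eq_of_commute hD hx hx' hwD hw1 hc]; exact hwD
  · intro g hg w hw hc
    obtain ⟨hw1, D, hD, hwD⟩ := hmem g w hw
    rw [h'.eq_of_commute (hC.symm.trans hD) hy hy' hwD hw1 hc]; exact hwD

/-- elements outside the axes are conjugate -/
theorem exists_conj [Finite G] (h : OneAxis A A0) {x x' : G} (hx : x ∈ A) (hx1 : x ∉ A0)
    (hx' : x' ∈ A) (hx1' : x' ∉ A0) : ∃ g ∈ normalizer (A : Set G), g * x * g⁻¹ = x' := by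
  obtain ⟨B, hB⟩ := h.ex
  rw [← h.eq B hB] at hx1 hx1'
  exact exists_normalizer_conj hx hx' hB hx1 hB hx1'

end OneAxis

/-- the involution swapping `x` and `y` when `|xy|` is odd -/
theorem exists_swap {x y : G} (hx : x * x = 1) (hy : y * y = 1) (ho : Odd (orderOf (x * y))) :
    ∃ m : ℕ, ∃ g : G, (x * (x * y) ^ m = g * x * g⁻¹ ∨ x * (x * y) ^ m = g * y * g⁻¹) ∧
      (x * (x * y) ^ m) * x * (x * (x * y) ^ m)⁻¹ = y := by
  obtain ⟨k, hk⟩ := ho
  have hxi : x⁻¹ = x := inv_eq_of_mul_eq_one_left hx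
  have hyi : y⁻¹ = y := inv_eq_of_mul_eq_one_left hy
  obtain ⟨g, hg, h⟩ := exists_conj_of_even hx hy (k + 1)
  refine ⟨k + 1, g, h, ?_⟩
  have h1 : (x * y) ^ (2 * k + 1) = 1 := by rw [← hk]; exact pow_orderOf_eq_one _
  have hinv : ∀ k : ℕ, x * (x * y) ^ k * x = ((x * y) ^ k)⁻¹ := by
    intro k
    induction k with
    | zero => simp [hx]
    | succ k ih =>
      rw [pow_succ, mul_inv_rev, mul_inv_rev, hxi, hyi, ← ih]
      calc x * ((x * y) ^ k * (x * y)) * x = x * (x * y) ^ k * (x * y * x) := by simp [mul_assoc]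
        _ = (x * (x * y) ^ k * x) * (y * x) := by
            rw [show (x * (x * y) ^ k * x) * (y * x) = x * (x * y) ^ k * (x * y * x) by
              simp [mul_assoc]]
        _ = y * x * (x * (x * y) ^ k * x) := by
            rw [ih]
            have : y * x = (x * y)⁻¹ := by rw [mul_inv_rev, hxi, hyi]
            rw [this, ← mul_inv_rev, ← mul_inv_rev, ← pow_succ, ← pow_succ']
  have h2 : (x * y) ^ (k + 1) * (x * y) ^ (k + 1) = x * y := by
    rw [← pow_add, show k + 1 + (k + 1) = (2 * k + 1) + 1 by ring, pow_add, h1, one_mul, pow_one]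
  have h3 : ((x * y) ^ (k + 1))⁻¹ * ((x * y) ^ (k + 1))⁻¹ = y * x := by
    rw [← mul_inv_rev, h2, mul_inv_rev, hxi, hyi]
  calc (x * (x * y) ^ (k + 1)) * x * (x * (x * y) ^ (k + 1))⁻¹
      = (x * (x * y) ^ (k + 1) * x) * ((x * y) ^ (k + 1))⁻¹ * x := by
        rw [mul_inv_rev, hxi]; simp only [mul_assoc]
    _ = y * x * x := by rw [hinv, h3]
    _ = y := by rw [mul_assoc, hx, mul_one]

theorem card_mod_two_of_involution {α : Type*} [Finite α] (f : α → α) (hf : ∀ a, f (f a) = a) :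
    Nat.card α ≡ Nat.card {a // f a = a} [MOD 2] := by
  classical
  have := Fintype.ofFinite α
  have : Fact (Nat.Prime 2) := ⟨Nat.prime_two⟩
  have h := Equiv.Perm.card_fixedPoints_modEq (f := (f : Function.End α)) (p := 2) (n := 1) (by
    funext a
    exact hf a)
  rw [← Nat.card_eq_fintype_card, ← Nat.card_eq_fintype_card] at h
  exact h

namespace OneAxis

variable {A0 C0 : Subgroup G}

/-- the set of all elements lying outside the axis of a member -/
def X (A A0 : Subgroup G) : Set G :=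
  {w | ∃ g : G, w ∈ MulAut.conj g • A ∧ w ∉ MulAut.conj g • A0}

theorem conj_mem_X {w : G} (hw : w ∈ X A A0) (k : G) : k * w * k⁻¹ ∈ X A A0 := by
  obtain ⟨g, h1, h2⟩ := hw
  refine ⟨k * g, ?_, ?_⟩
  · rw [cj_mul]; exact conj_mem_cj h1
  · rw [cj_mul]
    intro h3
    rw [mem_cj] at h3
    apply h2
    simpa only [mul_assoc, _root_.inv_mul_cancel_left, _root_.inv_mul_cancel, _root_.mul_one] using h3

/-- in case `OneAxis` any two members are adjacent -/
theorem pair_of_ne [Finite G] (h : OneAxis A A0) (hC : Cj A C) (hne : A ≠ C) : Pair A C := by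
  classical
  by_contra hnp
  have hbot : nrm A C = ⊥ := by
    by_contra h0
    exact hnp ⟨h.wa, hC, hne, h0⟩
  obtain ⟨C0, h'⟩ := h.of_cj hC
  obtain ⟨x, hx, hx'⟩ := h.exists_not_mem
  -- the axis of a conjugate
  have hax : ∀ g k : G, MulAut.conj g • A = MulAut.conj k • A →
      MulAut.conj g • A0 = MulAut.conj k • A0 := by
    intro g k hgk
    have h1 := h.cj g
    rw [hgk] at h1
    exact h1.unique (h.cj k)
  have haxC : ∀ g : G, MulAut.conj g • A = C → MulAut.conj g • A0 = C0 := by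
    intro g hg
    have h1 := h.cj g
    rw [hg] at h1
    exact h1.unique h'
  have hXne : ∀ w ∈ X A A0, w * w = 1 ∧ w ≠ 1 := by
    rintro w ⟨g, h1, h2⟩
    refine ⟨(h.cj g).wa.sq w h1, ?_⟩
    rintro rfl
    exact h2 (Subgroup.one_mem _)
  -- commuting elements of X lie in the same member
  have hXc : ∀ g w v : G, w ∈ MulAut.conj g • A → w ∉ MulAut.conj g • A0 → v ∈ X A A0 →
      v * w = w * v → v ∈ MulAut.conj g • A := by
    rintro g w v h1 h2 ⟨k, h3, h4⟩ hc
    have hv1 : v ≠ 1 := by rintro rfl; exact h4 (Subgroup.one_mem _)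
    rw [(h.cj g).eq_of_commute ((Cj.symm ⟨g, rfl⟩).trans ⟨k, rfl⟩) h1 h2 h3 hv1 hc]
    exact h3
  let I : Set G := {i | i ∈ X A A0 ∧ MulAut.conj i • A = C}
  let Y : Set G := {y | y ∈ C ∧ y ∉ C0}
  -- the map `i ↦ x^i`
  have hmaps : ∀ i ∈ I, i * x * i⁻¹ ∈ Y := by
    rintro i ⟨-, hi⟩
    refine ⟨by rw [← hi]; exact conj_mem_cj hx, ?_⟩
    rw [← haxC i hi, mem_cj]
    simpa [mul_assoc] using hx'
  have hswap : ∀ i ∈ I, MulAut.conj i • C = A := by
    rintro i ⟨hiX, hi⟩
    rw [← hi, ← cj_mul, (hXne i hiX).1, cj_one]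
  let φ : I → Y := fun i => ⟨i * x * (i : G)⁻¹, hmaps i i.2⟩
  have hkey : ∀ y ∈ Y, ∃ i0 ∈ I, i0 * x * i0⁻¹ = y ∧
      ∀ j ∈ I, j * x * j⁻¹ = y → j = i0 := by
    rintro y ⟨hy, hy'⟩
    have hxx := h.wa.sq x hx
    have hyy := h'.wa.sq y hy
    obtain ⟨m, g, hg, he⟩ := exists_swap hxx hyy (h.odd h' hC hne hx hx' hy hy')
    set i0 := x * (x * y) ^ m with hi0
    have hxX : x ∈ X A A0 := ⟨1, by rwa [cj_one], by rwa [cj_one]⟩
    have hyX : y ∈ X A A0 := by
      obtain ⟨t, ht⟩ := hC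
      exact ⟨t, by rwa [← ht], by rwa [haxC t ht.symm]⟩
    have hi0X : i0 ∈ X A A0 := by
      rcases hg with hg | hg
      · rw [hg]; exact conj_mem_X hxX g
      · rw [hg]; exact conj_mem_X hyX g
    have hx1 : x ≠ 1 := (hXne x hxX).2
    have hi0C : MulAut.conj i0 • A = C := by
      have h1 : y ∈ MulAut.conj i0 • A := by rw [← he]; exact conj_mem_cj hx
      exact ((h'.wa).eq_of_mem (hC.symm.trans ⟨i0, rfl⟩) hy h1 (hXne y hyX).2).symm
    refine ⟨i0, ⟨hi0X, hi0C⟩, he, ?_⟩
    rintro j ⟨hjX, hjC⟩ hj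
    have hjj := (hXne j hjX).1
    have hji : j⁻¹ = j := inv_eq_of_mul_eq_one_left hjj
    have hii := (hXne i0 hi0X).1
    have hi0i : i0⁻¹ = i0 := inv_eq_of_mul_eq_one_left hii
    rw [hji] at hj
    rw [hi0i] at he
    -- w = i0 * j commutes with x and y
    have hwx : (i0 * j) * x = x * (i0 * j) := by
      calc (i0 * j) * x = i0 * (j * x * j) * j := by
            rw [show i0 * (j * x * j) * j = i0 * j * x * (j * j) by simp [mul_assoc], hjj, mul_one]
        _ = i0 * (i0 * x * i0) * j := by rw [hj, he]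
        _ = x * (i0 * j) := by
            rw [show i0 * (i0 * x * i0) * j = (i0 * i0) * x * (i0 * j) by simp [mul_assoc], hii,
              one_mul]
    have hjy : j * y * j = x := by
      rw [← hj]
      rw [show j * (j * x * j) * j = (j * j) * x * (j * j) by simp [mul_assoc], hjj, one_mul,
        mul_one]
    have hiy : i0 * y * i0 = x := by
      rw [← he]
      rw [show i0 * (i0 * x * i0) * i0 = (i0 * i0) * x * (i0 * i0) by simp [mul_assoc], hii,
        one_mul, mul_one]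
    have hwy : (i0 * j) * y = y * (i0 * j) := by
      calc (i0 * j) * y = i0 * (j * y * j) * j := by
            rw [show i0 * (j * y * j) * j = i0 * j * y * (j * j) by simp [mul_assoc], hjj, mul_one]
        _ = i0 * (i0 * y * i0) * j := by rw [hjy, hiy]
        _ = y * (i0 * j) := by
            rw [show i0 * (i0 * y * i0) * j = (i0 * i0) * y * (i0 * j) by simp [mul_assoc], hii,
              one_mul]
    have hwxy : Commute (i0 * j) (x * y) := by
      show (i0 * j) * (x * y) = x * y * (i0 * j)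
      rw [← mul_assoc, hwx, mul_assoc, hwy, ← mul_assoc]
    have hwi : (i0 * j) * i0 = i0 * (i0 * j) := by
      have h1 : Commute (i0 * j) i0 := by
        have hc : Commute (i0 * j) (x * (x * y) ^ m) := Commute.mul_right hwx (hwxy.pow_right m)
        rwa [← hi0] at hc
      exact h1
    have hcomm : j * i0 = i0 * j := by
      have : i0 * (j * i0) = i0 * (i0 * j) := by rw [← mul_assoc]; exact hwi
      exact mul_left_cancel this
    -- j and i0 in the same member
    obtain ⟨k, hk1, hk2⟩ := hi0X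
    have hjk : j ∈ MulAut.conj k • A := hXc k i0 j hk1 hk2 hjX hcomm
    by_contra hjne
    have hw1 : i0 * j ≠ 1 := by
      intro h0
      apply hjne
      have := mul_eq_one_iff_inv_eq.mp h0
      rw [← this, hi0i]
    have hAk : A = MulAut.conj k • A :=
      h.eq_of_commute ⟨k, rfl⟩ hx hx' (Subgroup.mul_mem _ hk1 hjk) hw1 hwx
    rw [← hAk] at hk1
    have := mem_normalizer_iff_cj.mp (Subgroup.le_normalizer (H := A) hk1)
    rw [this] at hi0C
    exact hne hi0C
  have hφ : Function.Bijective φ := by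
    constructor
    · intro i j hij
      have h1 : (i : G) * x * (i : G)⁻¹ = j * x * (j : G)⁻¹ := congrArg Subtype.val hij
      obtain ⟨i0, -, -, hu⟩ := hkey _ (hmaps i i.2)
      apply Subtype.ext
      rw [hu i i.2 rfl, hu j j.2 h1.symm]
    · intro y
      obtain ⟨i0, hi0, he, -⟩ := hkey y y.2
      exact ⟨⟨i0, hi0⟩, Subtype.ext he⟩
  have hcard : Nat.card I = Nat.card Y := Nat.card_congr (Equiv.ofBijective φ hφ)
  -- |Y| is even
  have hYeven : Nat.card Y ≡ 0 [MOD 2] := by
    obtain ⟨c, hc, hc1⟩ := exists_mem_ne_one h'.ne_bot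
    have hcC := h'.le hc
    have hcc := h'.wa.sq c hcC
    let f : Y → Y := fun y => ⟨c * y, C.mul_mem hcC y.2.1, fun h0 => y.2.2 (by
      have := C0.mul_mem (C0.inv_mem hc) h0
      simpa using this)⟩
    have h1 := card_mod_two_of_involution f (fun y => Subtype.ext (by
      show c * (c * (y : G)) = y
      rw [← mul_assoc, hcc, one_mul]))
    have h2 : Nat.card {a // f a = a} = 0 := by
      rw [Nat.card_eq_zero]
      left
      constructor
      rintro ⟨y, hy⟩
      have : c * (y : G) = y := congrArg Subtype.val hy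
      exact hc1 (by simpa using this)
    rwa [h2] at h1
  -- |I| is odd
  have hIodd : Nat.card I ≡ 1 [MOD 2] := by
    obtain ⟨y, hy, hy'⟩ := h'.exists_not_mem
    obtain ⟨i1, hi1, -, -⟩ := hkey y ⟨hy, hy'⟩
    have hii := (hXne i1 hi1.1).1
    have hi1i : i1⁻¹ = i1 := inv_eq_of_mul_eq_one_left hii
    let f : I → I := fun j => ⟨i1 * j * i1, by
      refine ⟨?_, ?_⟩
      · have := conj_mem_X j.2.1 i1
        rwa [hi1i] at this
      · rw [cj_mul, cj_mul, hi1.2, hswap j j.2, hi1.2]⟩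
    have h1 := card_mod_two_of_involution f (fun j => Subtype.ext (by
      show i1 * (i1 * (j : G) * i1) * i1 = j
      rw [show i1 * (i1 * (j : G) * i1) * i1 = (i1 * i1) * j * (i1 * i1) by simp [mul_assoc], hii,
        one_mul, mul_one]))
    have h2 : Nat.card {a // f a = a} = 1 := by
      rw [Nat.card_eq_one_iff_unique]
      have hall : ∀ j : {a // f a = a}, (j.1 : G) = i1 := by
        rintro ⟨⟨j, hj⟩, hfj⟩
        have h3 : i1 * j * i1 = j := congrArg Subtype.val hfj
        have hjj := (hXne j hj.1).1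
        have hcomm : j * i1 = i1 * j := by
          calc j * i1 = (i1 * j * i1) * i1 := by rw [h3]
            _ = i1 * j := by rw [mul_assoc, hii, mul_one]
        obtain ⟨k, hk1, hk2⟩ := hi1.1
        have hjk : j ∈ MulAut.conj k • A := hXc k i1 j hk1 hk2 hj.1 hcomm
        by_contra hjne
        have hw1 : i1 * j ≠ 1 := by
          intro h0
          apply hjne
          have := mul_eq_one_iff_inv_eq.mp h0
          show j = i1
          rw [← this, hi1i]
        have hwA : i1 * j ∈ normalizer (A : Set G) := by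
          rw [mem_normalizer_iff_cj, cj_mul, hj.2]
          exact hswap i1 hi1
        have hAk : A ≠ MulAut.conj k • A := by
          intro hAk
          rw [← hAk] at hk1
          have := mem_normalizer_iff_cj.mp (Subgroup.le_normalizer (H := A) hk1)
          exact hne (this.symm.trans hi1.2)
        have hpk : Pair (MulAut.conj k • A) A := by
          refine ⟨h.wa.cj k, Cj.symm ⟨k, rfl⟩, hAk.symm, ?_⟩
          intro h0
          have : i1 * j ∈ nrm (MulAut.conj k • A) A := ⟨Subgroup.mul_mem _ hk1 hjk, hwA⟩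
          rw [h0, Subgroup.mem_bot] at this
          exact hw1 this
        have h4 := pair_of_mem_sup_conj hpk.symm (g := i1) (Subgroup.mem_sup_right hk1)
          (by rw [hi1.2]; exact hne)
        rw [hi1.2] at h4
        exact h4.1.nb hbot
      refine ⟨⟨fun a b => Subtype.ext (Subtype.ext ?_)⟩, ⟨⟨⟨i1, hi1⟩, ?_⟩⟩⟩
      · rw [hall a, hall b]
      · apply Subtype.ext
        show i1 * i1 * i1 = i1
        rw [hii, one_mul]
    rwa [h2] at h1
  rw [hcard] at hIodd
  have := hIodd.symm.trans hYeven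
  revert this
  decide

/-- in case `OneAxis` the conjugates of the axis generate an elementary abelian normal subgroup -/
theorem exists_normal [Finite G] (h : OneAxis A A0) :
    ∃ N : Subgroup G, N.Normal ∧ (∀ u ∈ N, ∀ v ∈ N, u * v = v * u) ∧ (∀ u ∈ N, u * u = 1) ∧
      A0 ≤ N := by
  have hcj : ∀ g k a b : G, a ∈ MulAut.conj g • A0 → b ∈ MulAut.conj k • A0 → a * b = b * a := by
    intro g k a b ha hb
    have hg := h.cj g
    have hk := h.cj k
    by_cases hgk : MulAut.conj g • A = MulAut.conj k • A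
    · exact hg.wa.comm _ (hg.le ha) _ (by rw [hgk]; exact hk.le hb)
    · have hp : Pair (MulAut.conj g • A) (MulAut.conj k • A) :=
        hg.pair_of_ne ((Cj.symm ⟨g, rfl⟩).trans ⟨k, rfl⟩) hgk
      refine hp.commute ?_ ?_
      · rw [hg.eq _ hp]; exact ha
      · rw [hk.eq _ hp.symm]; exact hb
  have hS : ∀ a ∈ Group.conjugatesOfSet (A0 : Set G), ∀ b ∈ Group.conjugatesOfSet (A0 : Set G),
      a * b = b * a := by
    intro a ha b hb
    obtain ⟨a', ha', hc⟩ := Group.mem_conjugatesOfSet_iff.mp ha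
    obtain ⟨b', hb', hd⟩ := Group.mem_conjugatesOfSet_iff.mp hb
    obtain ⟨g, rfl⟩ := isConj_iff.mp hc
    obtain ⟨k, rfl⟩ := isConj_iff.mp hd
    exact hcj g k _ _ (conj_mem_cj ha') (conj_mem_cj hb')
  have hcomm : ∀ u ∈ Subgroup.normalClosure (A0 : Set G), ∀ v ∈ Subgroup.normalClosure (A0 : Set G),
      u * v = v * u := by
    have h1 : Subgroup.normalClosure (A0 : Set G) ≤
        Subgroup.centralizer (Group.conjugatesOfSet (A0 : Set G)) := by
      unfold Subgroup.normalClosure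
      rw [Subgroup.closure_le]
      intro a ha
      rw [SetLike.mem_coe, Subgroup.mem_centralizer_iff]
      intro b hb
      exact hS b hb a ha
    have h2 : Subgroup.normalClosure (A0 : Set G) ≤
        Subgroup.centralizer (Subgroup.normalClosure (A0 : Set G) : Set G) := by
      conv_lhs => unfold Subgroup.normalClosure
      rw [Subgroup.closure_le]
      intro a ha
      rw [SetLike.mem_coe, Subgroup.mem_centralizer_iff]
      intro b hb
      exact ((Subgroup.mem_centralizer_iff.mp (h1 hb)) a ha).symm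
    intro u hu v hv
    exact (Subgroup.mem_centralizer_iff.mp (h2 hv)) u hu
  refine ⟨Subgroup.normalClosure (A0 : Set G), inferInstance, hcomm, ?_,
    Subgroup.subset_normalClosure⟩
  intro u hu
  have key : ∀ u ∈ Subgroup.closure (Group.conjugatesOfSet (A0 : Set G)), u * u = 1 := by
    intro u hu
    induction hu using Subgroup.closure_induction with
    | mem x hx =>
      obtain ⟨a', ha', hc⟩ := Group.mem_conjugatesOfSet_iff.mp hx
      obtain ⟨g, rfl⟩ := isConj_iff.mp hc
      exact (h.cj g).wa.sq _ ((h.cj g).le (conj_mem_cj ha'))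
    | one => simp
    | mul x y hx hy hxx hyy =>
      have h3 : x * y = y * x := hcomm x hx y hy
      calc x * y * (x * y) = x * (y * x) * y := by simp [mul_assoc]
        _ = x * (x * y) * y := by rw [h3]
        _ = (x * x) * (y * y) := by simp [mul_assoc]
        _ = 1 := by rw [hxx, hyy, one_mul]
    | inv x hx hxx => rw [← mul_inv_rev, hxx, inv_one]
  exact key u hu

end OneAxis

end Cfsg.Agent.WeakTI.PairOdd
end

-- part: WeakTI/PairCent
section
set_option linter.all false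
open scoped Cfsg.Agent.FastGrp

/-!
Elements centralising one member of an adjacent pair.
-/

set_option autoImplicit false

namespace Cfsg.Agent.WeakTI.PairBasic

open Subgroup Pointwise Basic

theorem exists_coboundary {L : Type*} [Group L] [Finite L] {U : Type*} [CommGroup U]
    (φ : L →* MulAut U) (hU : ∀ u : U, u * u = 1) (c : L → U)
    (hc : ∀ r s, c (r * s) = c r * φ r (c s)) (H : Subgroup L) (hH : ∀ h ∈ H, c h = 1)
    (hodd : Odd H.index) : ∃ u : U, ∀ g, c g * φ g u = u := by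
  classical
  let c' : L ⧸ H → U := fun x => Quotient.liftOn' x c (by
    intro a b hab
    have h1 : a⁻¹ * b ∈ H := (QuotientGroup.leftRel_apply.mp hab)
    have h2 : c b = c a * φ a (c (a⁻¹ * b)) := by rw [← hc]; simp
    rw [h2, hH _ h1]; simp)
  have hc' : ∀ g : L, c' (QuotientGroup.mk g) = c g := fun g => rfl
  have : Fintype (L ⧸ H) := Fintype.ofFinite _
  refine ⟨∏ x : L ⧸ H, c' x, fun g => ?_⟩
  have h1 : ∀ x : L ⧸ H, c' (g • x) = c g * φ g (c' x) := by
    intro x
    induction x using QuotientGroup.induction_on with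
    | H s => 
      have : (g • (QuotientGroup.mk s : L ⧸ H)) = QuotientGroup.mk (g * s) := rfl
      rw [this, hc', hc', hc]
  have h2 : ∏ x : L ⧸ H, c' (g • x) = ∏ x : L ⧸ H, c' x :=
    Equiv.prod_comp (MulAction.toPerm g) c'
  have h3 : c g ^ (Finset.univ : Finset (L ⧸ H)).card = c g := by
    rw [Finset.card_univ, ← Nat.card_eq_fintype_card]
    obtain ⟨m, hm⟩ := hodd
    have : Nat.card (L ⧸ H) = 2 * m + 1 := hm
    rw [this, pow_succ, pow_mul, pow_two, hU, one_pow, one_mul]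
  calc c g * φ g (∏ x : L ⧸ H, c' x)
      = c g ^ (Finset.univ : Finset (L ⧸ H)).card * ∏ x : L ⧸ H, φ g (c' x) := by
        rw [h3, map_prod]
    _ = ∏ x : L ⧸ H, c' (g • x) := by
        simp_rw [h1]; rw [Finset.prod_mul_distrib, Finset.prod_const]
    _ = ∏ x : L ⧸ H, c' x := h2

/-- Gaschütz' argument: an element `k` centralising `H` and `L/U`, where `|L : H|` is odd and `U` is
an elementary abelian 2-group, acts on `L` as an element of `U`. -/
theorem exists_mem_of_odd_relIndex {G : Type*} [Group G] [Finite G] {L U H : Subgroup G}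
    (hUc : ∀ u ∈ U, ∀ v ∈ U, u * v = v * u) (hUs : ∀ u ∈ U, u * u = 1)
    (hLU : L ≤ normalizer (U : Set G)) {k : G} (hk : ∀ r ∈ L, k * r * k⁻¹ * r⁻¹ ∈ U)
    (hH : ∀ r ∈ H, k * r = r * k) (hodd : Odd (H.relIndex L)) :
    ∃ u ∈ U, ∀ g ∈ L, (k⁻¹ * u) * g = g * (k⁻¹ * u) := by
  let _ : CommGroup U := { (inferInstance : Group U) with mul_comm := fun u v => Subtype.ext (hUc _ u.2 _ v.2) }
  let φ : L →* MulAut U := (U.normalizerMonoidHom).comp (Subgroup.inclusion hLU)
  have hφ : ∀ (g : L) (u : U), ((φ g u : U) : G) = g * u * (g : G)⁻¹ := fun g u => rfl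
  obtain ⟨u, hu⟩ := exists_coboundary φ (fun u => Subtype.ext (hUs _ u.2))
    (fun r => ⟨k * r * k⁻¹ * (r : G)⁻¹, hk r r.2⟩) (by
      intro r s
      apply Subtype.ext
      show k * ((r : G) * s) * k⁻¹ * ((r : G) * s)⁻¹ = (k * r * k⁻¹ * (r : G)⁻¹) * ((r : G) * (k * s * k⁻¹ * (s : G)⁻¹) * (r : G)⁻¹)
      group) (H.subgroupOf L) (by
      intro h hh
      apply Subtype.ext
      show k * (h : G) * k⁻¹ * (h : G)⁻¹ = 1
      rw [hH h (Subgroup.mem_subgroupOf.mp hh)]; simp) hodd
  refine ⟨u, u.2, fun g hg => ?_⟩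
  have h1 : (k * g * k⁻¹ * g⁻¹) * (g * (u : G) * g⁻¹) = u := congrArg Subtype.val (hu ⟨g, hg⟩)
  have h2 : k * g * (k⁻¹ * u) = u * g := by
    have := congrArg (fun z => z * g) h1
    simpa [mul_assoc] using this
  calc (k⁻¹ * u) * g = k⁻¹ * (u * g) := by group
    _ = k⁻¹ * (k * g * (k⁻¹ * u)) := by rw [h2]
    _ = g * (k⁻¹ * u) := by group

variable {G : Type*} [Group G] {A B C : Subgroup G}

/-- the elements of `N(U)` commuting with `k` modulo `U` -/
def commMod (U : Subgroup G) (k : G) : Subgroup G where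
  carrier := {r | r ∈ normalizer (U : Set G) ∧ k * r * k⁻¹ * r⁻¹ ∈ U}
  one_mem' := ⟨one_mem _, by simp⟩
  mul_mem' := by
    rintro r s ⟨hr, hr'⟩ ⟨hs, hs'⟩
    refine ⟨mul_mem hr hs, ?_⟩
    have h1 := U.mul_mem hr' (conj_mem_of_mem_normalizer hr hs')
    have h2 : k * (r * s) * k⁻¹ * (r * s)⁻¹ =
      k * r * k⁻¹ * r⁻¹ * (r * (k * s * k⁻¹ * s⁻¹) * r⁻¹) := by group
    rw [h2]; exact h1
  inv_mem' := by
    rintro r ⟨hr, hr'⟩
    refine ⟨inv_mem hr, ?_⟩
    have h1 := conj_mem_of_mem_normalizer' hr (U.inv_mem hr')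
    have h2 : k * r⁻¹ * k⁻¹ * r⁻¹⁻¹ = r⁻¹ * (k * r * k⁻¹ * r⁻¹)⁻¹ * r := by group
    rw [h2]; exact h1

namespace Pair

/-- an element centralising `A` and normalising `B` centralises `N_B(A)` -/
theorem commute_of_centralizes (h : Pair A B) {k : G} (hk : ∀ x ∈ A, k * x = x * k)
    (hkB : k ∈ normalizer (B : Set G)) {b : G} (hb : b ∈ nrm B A) : k * b = b * k := by
  obtain ⟨a, ha, ha1⟩ := h.exists_not_mem
  have hkA : k ∈ normalizer (A : Set G) := by
    rw [Subgroup.mem_normalizer_iff]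
    intro x
    constructor
    · intro hx
      rw [hk x hx]; simpa using hx
    · intro hx
      have h1 := hk _ hx
      have h2 : k * x * k⁻¹ = x := by
        have h3 : k * (k * x * k⁻¹) * k⁻¹ = k * x * k⁻¹ := by rw [h1]; simp
        have h4 : k * x * k⁻¹ = x := by
          have := congrArg (fun z => k⁻¹ * z * k) h3
          simpa [mul_assoc] using this
        exact h4
      rwa [h2] at hx
  have hb' : k * b * k⁻¹ ∈ nrm B A := by
    refine mem_nrm.mpr ⟨conj_mem_of_mem_normalizer hkB hb.1, ?_⟩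
    exact mul_mem (mul_mem hkA hb.2) (inv_mem hkA)
  have h1 : br a (k * b * k⁻¹) = br a b := by
    have h2 : k * br a b * k⁻¹ = br a b := by
      rw [hk _ (h.br_mem ha hb).1]; simp
    have h3 : k * a * k⁻¹ = a := by rw [hk a ha]; simp
    calc br a (k * b * k⁻¹) = a * ((k * b * k⁻¹) * a * (k * b * k⁻¹)⁻¹) := rfl
      _ = (k * a * k⁻¹) * ((k * b * k⁻¹) * (k * a * k⁻¹) * (k * b * k⁻¹)⁻¹) := by rw [h3]
      _ = k * (a * (b * a * b⁻¹)) * k⁻¹ := by group
      _ = br a b := h2
  have h2 : (⟨k * b * k⁻¹, hb'⟩ : nrm B A) = ⟨b, hb⟩ := by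
    apply h.brHom_injective (a := ⟨a, ha⟩) ha1
    apply Subtype.ext
    exact h1
  have h3 : k * b * k⁻¹ = b := congrArg Subtype.val h2
  calc k * b = (k * b * k⁻¹) * k := by simp
    _ = b * k := by rw [h3]

/-- an element centralising `A` and one involution of `B` centralises `U` and
`[k, B] ≤ N_B(A)`. -/
theorem mul_conj_mem_of_centralizes (h : Pair A B) {k : G} (hk : ∀ x ∈ A, k * x = x * k)
    (hkB : k ∈ normalizer (B : Set G)) {b : G} (hb : b ∈ B) : b * (k * b * k⁻¹) ∈ nrm B A := by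
  obtain ⟨a, ha, ha1⟩ := exists_mem_ne_one h.nb
  have hkb : k * b * k⁻¹ ∈ B := conj_mem_of_mem_normalizer hkB hb
  have h1 : b * (k * b * k⁻¹) ∈ B := mul_mem hb hkb
  refine (h.symm.mem_nrm_iff_commute h1 ha ha1).mpr ?_
  have hbr : br b a ∈ nrm B A := h.symm.br_mem hb ha
  have hka : k * a * k⁻¹ = a := by rw [hk a ha.1]; simp
  have h2 : br (k * b * k⁻¹) a = br b a := by
    have h3 : k * br b a * k⁻¹ = br b a := by
      rw [h.commute_of_centralizes hk hkB hbr]; simp
    calc br (k * b * k⁻¹) a = (k * b * k⁻¹) * (a * (k * b * k⁻¹) * a⁻¹) := rfl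
      _ = (k * b * k⁻¹) * ((k * a * k⁻¹) * (k * b * k⁻¹) * (k * a * k⁻¹)⁻¹) := by rw [hka]
      _ = k * (b * (a * b * a⁻¹)) * k⁻¹ := by group
      _ = br b a := h3
  rw [← h.symm.br_eq_one_iff h1, h.symm.br_mul_left hb hkb ha, h2]
  exact h.wb.sq _ hbr.1

/-- an element of odd order centralising `A` and normalising `B` centralises `B`. -/
theorem commute_of_odd (h : Pair A B) {k : G} (hk : ∀ x ∈ A, k * x = x * k)
    (hkB : k ∈ normalizer (B : Set G)) (ho : Odd (orderOf k)) {b : G} (hb : b ∈ B) :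
    k * b = b * k := by
  set c := b * (k * b * k⁻¹) with hc
  have hcm : c ∈ nrm B A := h.mul_conj_mem_of_centralizes hk hkB hb
  have hkc : k * c * k⁻¹ = c := by rw [h.commute_of_centralizes hk hkB hcm]; simp
  have hbb : b * b = 1 := h.wb.sq b hb
  have hcc : c * c = 1 := h.wb.sq c hcm.1
  have hbc : b * c = c * b := h.wb.comm _ hb _ hcm.1
  have h1 : k * b * k⁻¹ = b * c := by
    rw [hc, ← mul_assoc, hbb, one_mul]
  have h2 : ∀ n : ℕ, k ^ n * b * (k ^ n)⁻¹ = b * c ^ n := by
    intro n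
    induction n with
    | zero => simp
    | succ n ih =>
      have h3 : k * c ^ n * k⁻¹ = c ^ n := by
        rw [← conj_pow, hkc]
      calc k ^ (n + 1) * b * (k ^ (n + 1))⁻¹ = k * (k ^ n * b * (k ^ n)⁻¹) * k⁻¹ := by
            rw [pow_succ']; group
        _ = (k * b * k⁻¹) * (k * c ^ n * k⁻¹) := by rw [ih]; group
        _ = b * c ^ (n + 1) := by rw [h1, h3, pow_succ', mul_assoc]
  have h3 := h2 (orderOf k)
  rw [pow_orderOf_eq_one] at h3
  obtain ⟨m, hm⟩ := ho
  have h4 : c ^ orderOf k = c := by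
    rw [hm, pow_succ, pow_mul, pow_two, hcc, one_pow, one_mul]
  rw [h4] at h3
  have h5 : c = 1 := by
    have : b = b * c := by simpa using h3
    exact (mul_eq_left.mp this.symm)
  rw [h5, mul_one] at h1
  calc k * b = (k * b * k⁻¹) * k := by simp
    _ = b * k := by rw [h1]

/-- **odd subgroups of `C(A)` normalised by a noncyclic `N_B(A)` centralise `B`.** -/
theorem commute_of_odd_subgroup [Finite G] (h : Pair A B) (hcyc : ¬ IsCyclic (nrm B A))
    {X : Subgroup G} (hXo : Odd (Nat.card X)) (hXA : ∀ k ∈ X, ∀ x ∈ A, k * x = x * k)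
    (hXn : nrm B A ≤ normalizer (X : Set G)) {k : G} (hk : k ∈ X) {b : G} (hb : b ∈ B) :
    k * b = b * k := by
  have : IsMulCommutative (nrm B A) :=
    ⟨⟨fun x y => Subtype.ext (h.wb.comm _ x.2.1 _ y.2.1)⟩⟩
  have hcop : (Nat.card (nrm B A)).Coprime (Nat.card X) := by
    have h2 : IsPGroup 2 (nrm B A) := h.wb.isPGroup.to_le nrm_le
    obtain ⟨n, hn⟩ := IsPGroup.iff_card.mp h2
    rw [hn]
    exact Nat.Coprime.pow_left n ((Nat.coprime_two_left (n := Nat.card X)).mpr hXo)
  have hgen := Cfsg.Agent.S0058.result (nrm B A) X hcyc hXn hcop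
  have hle : X ≤ centralizer (B : Set G) := by
    rw [← hgen]
    refine iSup₂_le fun c hc x hx => ?_
    obtain ⟨hxX, hxc⟩ := Subgroup.mem_inf.mp hx
    have hxc' : x * c = c * x := (Subgroup.mem_centralizer_singleton_iff.mp hxc)
    rw [Subgroup.mem_centralizer_iff]
    intro b hb
    refine (h.commute_of_odd (hXA x hxX) (h.wb.mem_normalizer_of_commute hc.1.1 hc.2 hxc')
      ?_ hb).symm
    have hd : orderOf x ∣ Nat.card X := Subgroup.orderOf_dvd_natCard X hxX
    exact Odd.of_dvd_nat hXo hd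
  exact ((Subgroup.mem_centralizer_iff.mp (hle hk)) b hb).symm

/-- `N_B(A)` is not cyclic if its order is at least `4` -/
theorem not_isCyclic_nrm [Finite G] (h : Pair A B) (hc : 2 < Nat.card (nrm A B)) :
    ¬ IsCyclic (nrm B A) := by
  intro hcyc
  obtain ⟨x, hx⟩ := hcyc.exists_generator
  have h1 : orderOf x = Nat.card (nrm B A) := orderOf_eq_card_of_forall_mem_zpowers hx
  have h2 : x ^ 2 = 1 := by
    apply Subtype.ext
    simpa [pow_two] using h.wb.sq _ x.2.1
  have h3 : orderOf x ≤ 2 := orderOf_le_of_pow_eq_one two_pos h2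
  rw [h1, h.card_nrm_eq] at h3
  omega

/-- `|N_A(B)| > 2` if `|A| > 4` -/
theorem two_lt_card_nrm [Finite G] (h : Pair A B) (hc : 4 < Nat.card A) :
    2 < Nat.card (nrm A B) := by
  by_contra hcon
  have h1 := h.card_le
  have h2 : Nat.card (nrm A B) ≤ 2 := by omega
  have h3 : Nat.card (nrm A B) * Nat.card (nrm A B) ≤ 2 * 2 := Nat.mul_le_mul h2 h2
  omega

/-- odd subgroups `X` of `C(A)` normalised by `N_B(A)` centralise `B` if `|N_A(B)| > 2` -/
theorem commute_of_odd_subgroup' [Finite G] (h : Pair A B) (hc : 2 < Nat.card (nrm A B))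
    {X : Subgroup G} (hXo : Odd (Nat.card X)) (hXA : ∀ k ∈ X, ∀ x ∈ A, k * x = x * k)
    (hXn : nrm B A ≤ normalizer (X : Set G)) {k : G} (hk : k ∈ X) {b : G} (hb : b ∈ B) :
    k * b = b * k :=
  h.commute_of_odd_subgroup (h.not_isCyclic_nrm hc) hXo hXA hXn hk hb

/-- an element centralising `A` and normalising `B` is a product of an element of `N_A(B)` and an
element centralising `⟨A, B⟩` if `|⟨A,B⟩ : A U|` is odd. -/
theorem exists_mul_of_odd_relIndex [Finite G] (h : Pair A B)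
    (hodd : Odd ((A ⊔ nrm B A).relIndex (A ⊔ B))) {k : G} (hk : ∀ x ∈ A, k * x = x * k)
    (hkB : k ∈ normalizer (B : Set G)) :
    ∃ u ∈ nrm A B, ∃ z, k = u * z ∧ ∀ g ∈ A ⊔ B, z * g = g * z := by
  have hU : ∀ u ∈ nrm A B ⊔ nrm B A, ∀ v ∈ nrm A B ⊔ nrm B A, u * v = v * u := h.sup_comm_sq.1
  have hUs : ∀ u ∈ nrm A B ⊔ nrm B A, u * u = 1 := h.sup_comm_sq.2
  have hkr : ∀ r ∈ A ⊔ B, k * r * k⁻¹ * r⁻¹ ∈ nrm A B ⊔ nrm B A := by
    have hle : A ⊔ B ≤ commMod (nrm A B ⊔ nrm B A) k := by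
      refine sup_le ?_ ?_
      · intro x hx
        refine ⟨h.sup_le_normalizer_sup (Subgroup.mem_sup_left hx), ?_⟩
        rw [hk x hx]
        simp
      · intro x hx
        refine ⟨h.sup_le_normalizer_sup (Subgroup.mem_sup_right hx), ?_⟩
        have h1 := h.mul_conj_mem_of_centralizes hk hkB hx
        have h2 : k * x * k⁻¹ ∈ B := conj_mem_of_mem_normalizer hkB hx
        have h3 := h.wb.comm _ hx _ h2
        rw [h.wb.inv_eq hx, ← h3]
        exact Subgroup.mem_sup_right h1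
    exact fun r hr => (hle hr).2
  have hH : ∀ r ∈ A ⊔ nrm B A, k * r = r * k := by
    intro r hr
    have hle : A ⊔ nrm B A ≤ centralizer ({k} : Set G) := by
      refine sup_le ?_ ?_
      · intro x hx
        rw [Subgroup.mem_centralizer_singleton_iff]
        exact (hk x hx).symm
      · intro x hx
        rw [Subgroup.mem_centralizer_singleton_iff]
        exact (h.commute_of_centralizes hk hkB hx).symm
    exact (Subgroup.mem_centralizer_singleton_iff.mp (hle hr)).symm
  obtain ⟨u, hu, hug⟩ := exists_mem_of_odd_relIndex (H := A ⊔ nrm B A) hU hUs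
    h.sup_le_normalizer_sup hkr hH hodd
  have h1 : u ∈ nrm A B := by
    obtain ⟨a, ha, ha1⟩ := h.exists_not_mem
    refine h.mem_nrm_of_mem_sup_of_commute ha ha1 hu ?_
    have h2 := hug a (Subgroup.mem_sup_left ha)
    have h3 := hk a ha
    calc a * u = a * k * (k⁻¹ * u) := by group
      _ = k * a * (k⁻¹ * u) := by rw [h3]
      _ = k * ((k⁻¹ * u) * a) := by rw [h2]; group
      _ = u * a := by group
  refine ⟨u, h1, u⁻¹ * k, by group, fun g hg => ?_⟩
  have h2 := hug g hg
  have h3 : (u⁻¹ * k) = (k⁻¹ * u)⁻¹ := by group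
  rw [h3]
  exact (Commute.inv_left (show Commute (k⁻¹ * u) g from h2)).eq

end Pair

end Cfsg.Agent.WeakTI.PairBasic
end
end
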